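import Cfsg.Agent.H750.Fn
import Cfsg.Agent.H802.SylIn
import Cfsg.Agent.H759.FusBasic

/-!
# Aligned pairs and the relative extension lemma
-/

set_option autoImplicit false

namespace Cfsg.Agent.H750

open Cfsg Cfsg.FusionSystem Cfsg.Agent.H802

variable {Ω : Type*} [Group Ω] {S : Subgroup Ω}

theorem finite_mulAut {P : Type*} [Group P] [Finite P] : Finite (MulAut P) :=
  Finite.of_injective (fun α : MulAut P => (α : P → P)) (fun a b h => by
    ext x; exact congrFun h x)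

theorem Iso.exists_equiv {F : FusionSystem S} {P Q : Subgroup Ω} {f : Ω → Ω} (h : Iso F P Q f) :
    ∃ e : P ≃* Q, ∀ x : P, ((e x : Q) : Ω) = f x := by
  obtain ⟨φ, hφ, hr, hf⟩ := h
  exact ⟨H802.isoOf φ (F.injective_of_mem hφ) hr, fun x => hf x x.2⟩

theorem Iso.congr_mem {F : FusionSystem S} {P Q : Subgroup Ω} {f : Ω → Ω} (h : Iso F P Q f)
    {e : P ≃* Q} (he : ∀ x : P, ((e x : Q) : Ω) = f x) {α : MulAut P} (hα : α ∈ F.autGroup P) :
    MulAut.congr e α ∈ F.autGroup Q := by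
  obtain ⟨a, ha, hae⟩ := exists_iso_of_aut h.le_left hα
  obtain ⟨g, hg, hgf, hfg⟩ := h.exists_inv
  have h1 := (hg.trans ha).trans h
  refine autGroup_of_iso h1 (fun y => ?_)
  obtain ⟨x, rfl⟩ := e.surjective y
  have h2 : MulAut.congr e α (e x) = e (α x) := by simp
  rw [h2, he]
  show f (α x) = f (a (g (e x)))
  rw [he x, hgf x x.2, hae]

/-- The members of `F.autGroup R` carrying `Q` onto itself. -/
def stab (F : FusionSystem S) (R Q : Subgroup Ω) : Subgroup (MulAut R) where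
  carrier := {α | α ∈ F.autGroup R ∧ ∀ x : R, (x : Ω) ∈ Q ↔ ((α x : R) : Ω) ∈ Q}
  mul_mem' := by
    rintro α β ⟨hα, h1⟩ ⟨hβ, h2⟩
    refine ⟨mul_mem hα hβ, fun x => ?_⟩
    rw [h2 x, h1 (β x)]
    rfl
  one_mem' := ⟨one_mem _, fun x => Iff.rfl⟩
  inv_mem' := by
    rintro α ⟨hα, h1⟩
    refine ⟨inv_mem hα, fun x => ?_⟩
    rw [h1 (α⁻¹ x), MulAut.apply_inv_self]

theorem mem_stab {F : FusionSystem S} {R Q : Subgroup Ω} {α : MulAut R} :
    α ∈ stab F R Q ↔ α ∈ F.autGroup R ∧ ∀ x : R, (x : Ω) ∈ Q ↔ ((α x : R) : Ω) ∈ Q := Iff.rfl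

theorem stab_le (F : FusionSystem S) (R Q : Subgroup Ω) : stab F R Q ≤ F.autGroup R := fun _ h => h.1

theorem sylIn_of_isFullyAutomized {p : ℕ} [Fact p.Prime] [Finite S] {F : FusionSystem S} {Q : Subgroup Ω}
    (h : F.IsFullyAutomized p Q) : SylIn p (autInducedBy S Q) (F.autGroup Q) := by
  obtain ⟨hQS, T, hT⟩ := h
  have : Finite Q := finite_of_le hQS
  have : Finite (MulAut Q) := finite_mulAut
  have h1 := sylIn_of_sylow T
  rw [hT, Subgroup.subgroupOf_map_subtype, inf_eq_left.2 (autInducedBy_le_autGroup F hQS)] at h1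
  exact h1

theorem isFullyAutomized_of_sylIn {p : ℕ} [Fact p.Prime] [Finite S] {F : FusionSystem S} {Q : Subgroup Ω}
    (hQS : Q ≤ S) (h : SylIn p (autInducedBy S Q) (F.autGroup Q)) : F.IsFullyAutomized p Q := by
  have : Finite Q := finite_of_le hQS
  have : Finite (MulAut Q) := finite_mulAut
  exact ⟨hQS, h.exists_sylow⟩

/-- The pair `(R, Q)` is aligned: the automorphisms of `R` induced by `S` that stabilize `Q` form a Sylow subgroup
of the stabilizer of `Q` in `F.autGroup R`. -/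
def Aligned (p : ℕ) (F : FusionSystem S) (R Q : Subgroup Ω) : Prop :=
  SylIn p (autInducedBy S R ⊓ stab F R Q) (stab F R Q)

theorem exists_aligned {p : ℕ} [Fact p.Prime] [Finite S] (hS : IsPGroup p S) {F : FusionSystem S}
    {R R₀ : Subgroup Ω} (hc : F.IsConj R R₀) (ha : F.IsFullyAutomized p R₀) {Q : Subgroup Ω} (hQR : Q ≤ R) :
    ∃ f Q₁, Iso F R R₀ f ∧ Iso F Q Q₁ f ∧ Aligned p F R₀ Q₁ := by
  have hR₀S : R₀ ≤ S := ha.1
  have : Finite R₀ := finite_of_le hR₀S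
  have : Finite (MulAut R₀) := finite_mulAut
  obtain ⟨f₀, hf₀⟩ := exists_iso_of_isConj hc
  obtain ⟨Q₀, hQ₀, hQ₀R⟩ := hf₀.restrict hQR
  obtain ⟨T₀, -, hT₀⟩ := exists_sylIn (p := p) (B := (⊥ : Subgroup (MulAut R₀))) (K := stab F R₀ Q₀) bot_le
    IsPGroup.of_bot
  obtain ⟨a, haF, hconj⟩ := (sylIn_of_isFullyAutomized ha).exists_conj
    (hT₀.le.trans (stab_le F R₀ Q₀)) hT₀.isPGroup
  obtain ⟨fa, hfa, hfae⟩ := exists_iso_of_aut hR₀S haF
  obtain ⟨Q₁, hQ₁, hQ₁R⟩ := hfa.restrict hQ₀R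
  refine ⟨fa ∘ f₀, Q₁, hf₀.trans hfa, hQ₀.trans hQ₁, ?_⟩
  have key : ∀ x : R₀, (x : Ω) ∈ Q₀ ↔ ((a x : R₀) : Ω) ∈ Q₁ := by
    intro x
    rw [← hfae]
    constructor
    · intro hx
      exact hQ₁.mem hx
    · intro hx
      obtain ⟨y, hy, hye⟩ := hQ₁.surj hx
      have := hfa.inj (hQ₀R hy) x.2 hye
      rwa [← this]
  have hmap : (stab F R₀ Q₀).map (MulAut.conj a).toMonoidHom = stab F R₀ Q₁ := by
    ext β
    constructor
    · rintro ⟨α, ⟨hα, h1⟩, rfl⟩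
      refine ⟨mul_mem (mul_mem haF hα) (inv_mem haF), fun x => ?_⟩
      have h2 := key (a⁻¹ x)
      rw [MulAut.apply_inv_self] at h2
      rw [← h2, h1, key]
      rfl
    · rintro ⟨hβ, h1⟩
      refine ⟨a⁻¹ * β * a, ⟨mul_mem (mul_mem (inv_mem haF) hβ) haF, fun x => ?_⟩, ?_⟩
      · rw [key x, h1 (a x), key]
        have : a ((a⁻¹ * β * a) x) = β (a x) := by
          rw [MulAut.mul_apply, MulAut.mul_apply, MulAut.apply_inv_self]
        rw [this]
      · show a * (a⁻¹ * β * a) * a⁻¹ = β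
        group
  have h1 := hT₀.map_conj a
  rw [hmap] at h1
  have h2 : (autInducedBy S R₀ ⊓ stab F R₀ Q₁ : Subgroup (MulAut R₀)) =
      T₀.map (MulAut.conj a).toMonoidHom := by
    refine h1.eq_of_le inf_le_right ((isPGroup_autInducedBy hS R₀).to_le inf_le_left) (le_inf ?_ h1.le)
    rintro _ ⟨t, ht, rfl⟩
    exact hconj t ht
  unfold Aligned
  rw [h2]
  exact h1

/-- **Relative extension lemma.** -/
theorem exists_ext {p : ℕ} [Fact p.Prime] [Finite S] (hS : IsPGroup p S) {F : FusionSystem S}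
    {P Q : Subgroup Ω} {f : Ω → Ω} (hf : Iso F P Q f) (hQ : F.IsReceptive Q)
    (A K : Subgroup (MulAut Q)) (hA : A ≤ F.autGroup Q) (hAl : SylIn p (autInducedBy S Q ⊓ A) A)
    (hKA : K ≤ A) (hK : ∀ a ∈ A, ∀ k ∈ K, a * k * a⁻¹ ∈ K)
    (N : Subgroup Ω) (hPN : P ≤ N) (hNS : N ≤ S) (hNn : N ≤ Subgroup.normalizer (P : Set Ω))
    (hN : ∀ g ∈ N, ∃ k ∈ K, ∃ b ∈ autInducedBy S Q ⊓ A, ∀ (x : Ω) (_ : x ∈ P) (hy : f x ∈ Q),
      f (g * x * g⁻¹) = ((k (b ⟨f x, hy⟩) : Q) : Ω)) :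
    ∃ k ∈ K, ∃ N' f', Iso F N N' f' ∧ Iso F P Q f' ∧
      ∀ (x : Ω) (_ : x ∈ P) (hy : f x ∈ Q), f' x = ((k ⟨f x, hy⟩ : Q) : Ω) := by
  have hQS : Q ≤ S := hf.le_right
  have hPS : P ≤ S := hf.le_left
  have : Finite Q := finite_of_le hQS
  have : Finite (MulAut Q) := finite_mulAut
  obtain ⟨e, he⟩ := hf.exists_equiv
  let θ : N →* MulAut Q :=
    { toFun := fun g => (MulAut.congr e) (H759.conjAut P g (hNn g.2))
      map_one' := by
        ext x
        simp only [MulAut.congr_apply, MulEquiv.trans_apply, MulAut.one_apply]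
        have : H759.conjAut P ((1 : N) : Ω) (hNn (1 : N).2) (e.symm x) = e.symm x := by
          apply Subtype.ext
          rw [H759.coe_conjAut]
          simp
        rw [this]; simp
      map_mul' := fun a b => by
        ext x
        simp only [MulAut.congr_apply, MulEquiv.trans_apply, MulAut.mul_apply]
        congr 2
        apply Subtype.ext
        rw [H759.coe_conjAut, MulEquiv.symm_apply_apply, H759.coe_conjAut, H759.coe_conjAut]
        simp only [Subgroup.coe_mul, mul_inv_rev, mul_assoc] }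
  have hθ : ∀ (g : N) (x : P), ((θ g (e x) : Q) : Ω) = f (g * x * (g : Ω)⁻¹) := by
    intro g x
    show ((e (H759.conjAut P g (hNn g.2) (e.symm (e x))) : Q) : Ω) = _
    rw [MulEquiv.symm_apply_apply, he]
    rfl
  have hNp : IsPGroup p N := hS.to_le hNS
  have hHp : IsPGroup p θ.range := by
    intro x
    obtain ⟨y, g, rfl⟩ := x
    obtain ⟨k, hk⟩ := hNp g
    refine ⟨k, Subtype.ext ?_⟩
    show (θ g) ^ p ^ k = 1
    rw [← map_pow, hk, _root_.map_one]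
  obtain ⟨k, hk, hk2⟩ := H759.exists_conj_le_of_le_sup' (A := A) (autInducedBy S Q ⊓ A)
    hAl.exists_sylow K hKA hK θ.range hHp (by
      rintro _ ⟨g, rfl⟩
      obtain ⟨k, hk, b, hb, hkb⟩ := hN g g.2
      refine ⟨k, hk, b, hb, hb.2, ?_⟩
      apply MulEquiv.ext
      intro y
      obtain ⟨x, rfl⟩ := e.surjective y
      apply Subtype.ext
      rw [hθ, hkb x x.2 (hf.mem x.2)]
      have : (⟨f x, hf.mem x.2⟩ : Q) = e x := Subtype.ext (he x).symm
      rw [this]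
      rfl)
  obtain ⟨fk, hfk, hfke⟩ := exists_iso_of_aut hQS (hA (hKA hk))
  have hf1 := hf.trans hfk
  obtain ⟨N', f', hf', hfe'⟩ := extend_of_receptive hQ hf1 N (by
    intro g hg
    refine ⟨hNS hg, hNn hg, ?_⟩
    obtain ⟨h, hh, hhe⟩ := (mem_autInducedBy_iff S Q _).1 (hk2 (θ ⟨g, hg⟩) ⟨_, rfl⟩).1
    refine ⟨h, hh, fun x hx => ?_⟩
    have h1 := hhe (k (e ⟨x, hx⟩))
    have h2 : (k * θ ⟨g, hg⟩ * k⁻¹) (k (e ⟨x, hx⟩)) = k (θ ⟨g, hg⟩ (e ⟨x, hx⟩)) := by
      rw [MulAut.mul_apply, MulAut.mul_apply, MulAut.inv_apply_self]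
    rw [h2, ← hfke, ← hfke, hθ, he] at h1
    exact h1) hPN
  refine ⟨k, hk, N', f', hf', hf1.congr hfe', fun x hx hy => ?_⟩
  rw [hfe' x hx]
  show fk (f x) = _
  exact hfke ⟨f x, hy⟩

/-- The image of a group normalizing the source of an isomorphism normalizes the image. -/
theorem Iso.le_normalizerIn {F : FusionSystem S} {N N' P P' : Subgroup Ω} {f : Ω → Ω}
    (hN : Iso F N N' f) (hP : Iso F P P' f) (hPN : P ≤ N) (h : N ≤ Subgroup.normalizer (P : Set Ω)) :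
    N' ≤ normalizerIn S P' := by
  intro y hy
  obtain ⟨g, hg, rfl⟩ := hN.surj hy
  refine ⟨hN.le_right hy, ?_⟩
  have h1 : ∀ g ∈ N, ∀ z ∈ P', f g * z * (f g)⁻¹ ∈ P' := by
    intro g hg z hz
    obtain ⟨x, hx, rfl⟩ := hP.surj hz
    have h2 : g * x * g⁻¹ ∈ P := (Subgroup.mem_normalizer_iff.1 (h hg) x).1 hx
    rw [← hN.map_conj hg (hPN hx)]
    exact hP.mem h2
  show f g ∈ Subgroup.normalizer (P' : Set Ω)
  rw [Subgroup.mem_normalizer_iff]
  intro z
  refine ⟨h1 g hg z, fun hz => ?_⟩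
  have := h1 g⁻¹ (inv_mem hg) _ hz
  rw [hN.map_inv hg] at this
  simpa [mul_assoc] using this

/-- In the aligned situation an isomorphism of pairs can be modified so as to extend to the common normalizer. -/
theorem exists_ext_stab {p : ℕ} [Fact p.Prime] [Finite S] (hS : IsPGroup p S) {F : FusionSystem S}
    {R Q R₀ Q₁ : Subgroup Ω} {f : Ω → Ω} (hf : Iso F R R₀ f) (hfQ : Iso F Q Q₁ f) (hQR : Q ≤ R)
    (hr : F.IsReceptive R₀) (hal : Aligned p F R₀ Q₁)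
    (N : Subgroup Ω) (hRN : R ≤ N) (hNR : N ≤ normalizerIn S R) (hNQ : N ≤ normalizerIn S Q) :
    ∃ k ∈ stab F R₀ Q₁, ∃ N' f', Iso F N N' f' ∧ Iso F R R₀ f' ∧ Iso F Q Q₁ f' ∧
      ∀ (x : Ω) (_ : x ∈ R) (hy : f x ∈ R₀), f' x = ((k ⟨f x, hy⟩ : R₀) : Ω) := by
  have hQ₁R₀ : Q₁ ≤ R₀ := by
    intro y hy
    obtain ⟨x, hx, rfl⟩ := hfQ.surj hy
    exact hf.mem (hQR hx)
  obtain ⟨e, he⟩ := hf.exists_equiv
  obtain ⟨k, hk, N', f', h1, h2, h3⟩ := exists_ext hS hf hr (stab F R₀ Q₁) (stab F R₀ Q₁)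
    (stab_le F R₀ Q₁) hal le_rfl (fun a ha k hk => mul_mem (mul_mem ha hk) (inv_mem ha)) N hRN
    (hNR.trans inf_le_left) (hNR.trans inf_le_right) (by
      intro g hg
      have hgS : g ∈ S := (hNR hg).1
      have hgn : g ∈ Subgroup.normalizer (R : Set Ω) := (hNR hg).2
      have hgq : g ∈ Subgroup.normalizer (Q : Set Ω) := (hNQ hg).2
      refine ⟨(MulAut.congr e) (H759.conjAut R g hgn), ⟨?_, ?_⟩, 1, one_mem _, ?_⟩
      · exact hf.congr_mem he (autGroup_of_iso (iso_conj F hf.le_left hgS hgn) (fun x => rfl))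
      · intro y
        obtain ⟨x, rfl⟩ := e.surjective y
        have h4 : MulAut.congr e (H759.conjAut R g hgn) (e x) = e (H759.conjAut R g hgn x) := by simp
        rw [h4, he, he]
        have hiff : ∀ x : R, f x ∈ Q₁ ↔ (x : Ω) ∈ Q := by
          intro x
          refine ⟨fun hx => ?_, fun hx => hfQ.mem hx⟩
          obtain ⟨y, hy, hye⟩ := hfQ.surj hx
          have := hf.inj (hQR hy) x.2 hye
          rwa [← this]
        rw [hiff, hiff]
        exact Subgroup.mem_normalizer_iff.1 hgq x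
      · intro x hx hy
        have h4 : (⟨f x, hy⟩ : R₀) = e ⟨x, hx⟩ := Subtype.ext (he ⟨x, hx⟩).symm
        rw [h4, MulAut.one_apply]
        have h5 : MulAut.congr e (H759.conjAut R g hgn) (e ⟨x, hx⟩) = e (H759.conjAut R g hgn ⟨x, hx⟩) := by
          simp
        rw [h5, he]
        rfl)
  refine ⟨k, hk, N', f', h1, h2, ?_, h3⟩
  obtain ⟨Q₂, hQ₂, -⟩ := h2.restrict hQR
  have : Q₂ = Q₁ := by
    have hle : Q₂ ≤ Q₁ := by
      intro y hy
      obtain ⟨x, hx, rfl⟩ := hQ₂.surj hy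
      rw [h3 x (hQR hx) (hf.mem (hQR hx))]
      exact (hk.2 ⟨f x, hf.mem (hQR hx)⟩).1 (hfQ.mem hx)
    have : Finite Q₁ := finite_of_le hfQ.le_right
    exact Subgroup.eq_of_le_of_card_ge hle (by rw [← hQ₂.card_eq, ← hfQ.card_eq])
  rwa [this] at hQ₂

end Cfsg.Agent.H750
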