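import Cfsg.Agent.H750.Trace
import Cfsg.Agent.H750.SatCritA
import Cfsg.Agent.H980.BisetStable
import Cfsg.Agent.Transfer.Residual
import Cfsg.Agent.H759.FusLift

/-!
# The subsystem of index `p` over the kernel of an invariant homomorphism `S → ZMod p`
-/

set_option autoImplicit false
set_option linter.unusedSectionVars false

universe u

namespace Cfsg.Agent.H750

open Cfsg Cfsg.FusionSystem Cfsg.Agent.H802 Cfsg.Agent.H750.Trace

variable {Ω : Type u} [Group Ω] {S : Subgroup Ω}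

/-- The data of an `F`-invariant homomorphism `t` from `S` to `ZMod p` and a characteristic biset. -/
structure Dat (p : ℕ) (F : FusionSystem S) (t : Ω → ZMod p) (X : Type u) [MulAction (S × S) X] [Finite X]
    (τ : X → ZMod p) : Prop where
  add : ∀ a ∈ S, ∀ b ∈ S, t (a * b) = t a + t b
  inv : ∀ (P Q : Subgroup Ω) (f : Ω → Ω), Iso F P Q f → ∀ x ∈ P, t (f x) = t x
  tau : Tau (fun g : S => t g) τ
  free : ∀ (x : X) (s : S), ((1, s) : S × S) • x = x → s = 1
  gen : ∀ x : X, ∃ (Q Q' : Subgroup Ω) (f : Ω → Ω), Iso F Q Q' f ∧ ∀ g s : S,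
    ((g, s) : S × S) • x = x ↔ ((g : Ω) ∈ Q ∧ (s : Ω) = f g)
  stable : ∀ (P Q : Subgroup Ω) (f : Ω → Ω), Iso F P Q f → ∃ e : X ≃ X,
    ∀ (g s : S) (x : X) (h : f g ∈ S), (g : Ω) ∈ P → e (((g, s) : S × S) • x) = ((⟨f g, h⟩, s) : S × S) • e x
  card : (Nat.card (Quotient (rel S X)) : ZMod p) ≠ 0

theorem exists_dat {p : ℕ} [Fact p.Prime] [Finite S] (hS : IsPGroup p S) {F : FusionSystem S}
    (hF : F.IsSaturated p) (t : Ω → ZMod p) (hadd : ∀ a ∈ S, ∀ b ∈ S, t (a * b) = t a + t b)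
    (hinv : ∀ (P Q : Subgroup Ω) (f : Ω → Ω), Iso F P Q f → ∀ x ∈ P, t (f x) = t x) :
    ∃ (X : Type u) (_ : MulAction (S × S) X) (_ : Finite X) (τ : X → ZMod p), Dat p F t X τ := by
  obtain ⟨X, hX, hfin, h1, h2, n, h3, h4⟩ := H980.exists_biset_left hS hF
  have hgen : ∀ x : X, ∃ (Q Q' : Subgroup Ω) (f : Ω → Ω), Iso F Q Q' f ∧ ∀ g s : S,
      ((g, s) : S × S) • x = x ↔ ((g : Ω) ∈ Q ∧ (s : Ω) = f g) := by
    intro x
    obtain ⟨Q, φ, hφ, h⟩ := h1 x
    obtain ⟨f, hf, hfe⟩ := exists_iso_of_hom hφ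
    refine ⟨Q, φ.range, f, hf, fun g s => ?_⟩
    rw [h]
    constructor
    · rintro ⟨hg, hs⟩
      exact ⟨hg, by rw [hs, hfe _ hg]⟩
    · rintro ⟨hg, hs⟩
      exact ⟨hg, by rw [hs, hfe _ hg]⟩
  have hfree : ∀ (x : X) (s : S), ((1, s) : S × S) • x = x → s = 1 := by
    intro x s hs
    obtain ⟨Q, Q', f, hf, h⟩ := hgen x
    obtain ⟨-, h5⟩ := (h 1 s).1 hs
    apply Subtype.ext
    rw [h5]
    exact hf.map_one
  obtain ⟨τ, hτ⟩ := exists_tau (G := S) (X := X) (fun g : S => t g) (fun a b => hadd a a.2 b b.2)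
    (fun x g s hgs => by
      obtain ⟨Q, Q', f, hf, h⟩ := hgen x
      obtain ⟨hg, hs⟩ := (h g s).1 hgs
      show t g = t s
      rw [hs, hinv Q Q' f hf g hg])
  refine ⟨X, hX, hfin, τ, hadd, hinv, hτ, hfree, hgen, ?_, ?_⟩
  · rintro P Q f hf
    obtain ⟨φ, hφ, hr, hfe⟩ := id hf
    obtain ⟨e, he⟩ := h2 P φ hφ
    refine ⟨e, fun g s x h hg => ?_⟩
    rw [he g s hg x]
    congr 2
    exact Subtype.ext (hfe _ hg)
  · have h5 := card_eq (G := S) (X := X) hfree
    rw [h3] at h5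
    have h6 : Nat.card (Quotient (rel S X)) = n := by
      have h7 : 0 < Nat.card S := Nat.card_pos
      have h8 : Nat.card S * n = Nat.card S * Nat.card (Quotient (rel S X)) := by rw [h5, mul_comm]
      exact (Nat.eq_of_mul_eq_mul_left h7 h8).symm
    rw [h6]
    intro h7
    exact h4 ((ZMod.natCast_eq_zero_iff n p).1 h7)

/-- `e` covers `f` on `P`. -/
def Cov (S : Subgroup Ω) {X : Type u} [MulAction (S × S) X] (P : Subgroup Ω) (f : Ω → Ω) (e : X ≃ X) : Prop :=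
  ∀ (g s : S) (x : X) (h : f g ∈ S), (g : Ω) ∈ P → e (((g, s) : S × S) • x) = ((⟨f g, h⟩, s) : S × S) • e x

section

variable {X : Type u} [MulAction (S × S) X] {F : FusionSystem S} {P Q R : Subgroup Ω} {f g : Ω → Ω}
  {e e' : X ≃ X}

theorem Cov.req (hf : Iso F P Q f) (h : Cov S P f e) : REq S e := by
  intro s x
  have h1 : f ((1 : S) : Ω) ∈ S := by
    rw [Subgroup.coe_one, hf.map_one]; exact one_mem S
  rw [h 1 s x h1 (one_mem P)]
  congr 2
  apply Subtype.ext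
  exact hf.map_one

theorem Cov.comp (hf : Iso F P Q f) (h : Cov S P f e) (h' : Cov S Q g e') : Cov S P (g ∘ f) (e.trans e') := by
  intro a s x hgf ha
  have h1 : f a ∈ S := hf.le_right (hf.mem ha)
  show e' (e _) = _
  rw [h a s x h1 ha, h' ⟨f a, h1⟩ s (e x) hgf (hf.mem ha)]
  rfl

theorem Cov.congr (h : Cov S P f e) (he : ∀ x ∈ P, g x = f x) : Cov S P g e := by
  intro a s x hg ha
  have h1 : f a ∈ S := by rw [← he a ha]; exact hg
  rw [h a s x h1 ha]
  congr 2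
  exact Subtype.ext (he a ha).symm

theorem Cov.restrict (h : Cov S P f e) (hR : R ≤ P) : Cov S R f e := fun a s x hf ha => h a s x hf (hR ha)

theorem Cov.symm (hf : Iso F P Q f) (hgf : ∀ x ∈ P, g (f x) = x) (h : Cov S P f e) : Cov S Q g e.symm := by
  intro b s x hg hb
  rw [Equiv.symm_apply_eq]
  obtain ⟨a, ha, hab⟩ := hf.surj hb
  have haS : a ∈ S := hf.le_left ha
  have h1 : g b = a := by rw [← hab, hgf a ha]
  have h2 : f a ∈ S := by rw [hab]; exact b.2
  have h3 : (⟨g b, hg⟩ : S) = ⟨a, haS⟩ := Subtype.ext h1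
  rw [h3, h ⟨a, haS⟩ s (e.symm x) h2 ha, Equiv.apply_symm_apply]
  congr 2
  exact Subtype.ext hab.symm

theorem cov_lm (P : Subgroup Ω) (g : S) : Cov S P (fun x => (g : Ω) * x * (g : Ω)⁻¹) (lm X g) := by
  intro a s x h ha
  rw [lm_apply, lm_apply, smul_smul, smul_smul]
  congr 1
  simp only [Prod.mk_mul_mk, one_mul, mul_one, Prod.mk.injEq, and_true]
  apply Subtype.ext
  show (g : Ω) * a = (g : Ω) * a * (g : Ω)⁻¹ * g
  group

end

section

variable {p : ℕ} [Fact p.Prime] [Finite S] {F : FusionSystem S} {t : Ω → ZMod p}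
  {X : Type u} [MulAction (S × S) X] [Finite X] {τ : X → ZMod p}

theorem Dat.one (D : Dat p F t X τ) : t 1 = 0 := by
  have := D.add 1 (one_mem S) 1 (one_mem S)
  rw [mul_one] at this
  exact left_eq_add.1 this

theorem Dat.map_inv (D : Dat p F t X τ) {a : Ω} (ha : a ∈ S) : t a⁻¹ = - t a := by
  have := D.add a⁻¹ (inv_mem ha) a ha
  rw [inv_mul_cancel, D.one] at this
  exact eq_neg_of_add_eq_zero_left this.symm

/-- a covering bijection of the identity of a thin subgroup has trace zero -/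
theorem Dat.tr_thin (D : Dat p F t X τ) (hS : IsPGroup p S) {P : Subgroup Ω} (hPS : P ≤ S)
    (hthin : ∀ (P' : Subgroup Ω) (f : Ω → Ω), Iso F P P' f → ∀ u ∈ centralizerIn S P', t u = 0)
    {e : X ≃ X} (he : Cov S P id e) : Tr S τ e = 0 := by
  refine Tr_eq_zero (t := fun g : S => t g) D.tau D.one D.free (P.subgroupOf S)
    (hS.to_subgroup _) e (fun g hg s x => he g s x g.2 hg) ?_
  intro x hx u hu
  obtain ⟨Q, Q', f, hf, h⟩ := D.gen x
  have hPQ : P ≤ Q := by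
    intro y hy
    obtain ⟨s, hs⟩ := hx ⟨y, hPS hy⟩ hy
    exact ((h _ _).1 hs).1
  obtain ⟨P', hP', -⟩ := hf.restrict hPQ
  refine hthin P' f hP' u ⟨u.2, ?_⟩
  show (u : Ω) ∈ Subgroup.centralizer (P' : Set Ω)
  rw [Subgroup.mem_centralizer_iff]
  intro y hy
  obtain ⟨z, hz, rfl⟩ := hP'.surj hy
  have h1 : (((⟨z, hPS hz⟩ : S), (⟨f z, hf.le_right (hf.mem (hPQ hz))⟩ : S)) : S × S) • x = x :=
    (h _ _).2 ⟨hPQ hz, rfl⟩
  have h2 := hu ⟨z, hPS hz⟩ hz _ h1
  exact congrArg (fun w : S => (w : Ω)) h2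

/-- The subsystem of trace zero maps over `M`. -/
def subsys (F : FusionSystem S) {M : Subgroup Ω} (hMS : M ≤ S) (D : Dat p F t X τ)
    (hM : ∀ a ∈ S, t a = 0 ↔ a ∈ M) : FusionSystem M where
  Hom P := {φ | φ ∈ F.Hom P ∧ P ≤ M ∧ ∃ (f : Ω → Ω) (e : X ≃ X), (∀ (x : Ω) (hx : x ∈ P), f x = φ ⟨x, hx⟩) ∧
    Cov S P f e ∧ Tr S τ e = 0}
  le_of_mem := by
    rintro P φ ⟨hφ, hP, -⟩
    refine ⟨hP, fun x => ?_⟩
    obtain ⟨f, hf, hfe⟩ := exists_iso_of_hom hφ
    rw [← hM _ ((F.le_of_mem hφ).2 x)]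
    have h1 := D.inv _ _ f hf x x.2
    rw [hfe x x.2] at h1
    have h2 : (⟨(x : Ω), x.2⟩ : P) = x := rfl
    rw [h2] at h1
    rw [h1, hM _ (hMS (hP x.2))]
    exact hP x.2
  injective_of_mem := by
    rintro P φ ⟨hφ, -⟩
    exact F.injective_of_mem hφ
  conj_mem := by
    intro P g hP hg
    refine ⟨F.conj_mem (hP.trans hMS) (hMS hg), hP, fun x => g * x * g⁻¹, lm X (⟨g, hMS hg⟩ : S),
      fun x hx => rfl, cov_lm P (⟨g, hMS hg⟩ : S), ?_⟩
    rw [Tr_lm (t := fun g : S => t g) D.tau D.one]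
    show _ * t g = 0
    rw [(hM g (hMS hg)).2 hg, mul_zero]
  comp_mem := by
    rintro P Q φ ψ ⟨hφ, hP, f, e, hf, he, h0⟩ ⟨hψ, hQ, f', e', hf', he', h0'⟩ h
    have hfi : Iso F P φ.range f := iso_of_hom hφ hf
    have hfi' : Iso F Q ψ.range f' := iso_of_hom hψ hf'
    have hle : φ.range ≤ Q := by
      rintro _ ⟨x, rfl⟩
      exact h x
    refine ⟨F.comp_mem hφ hψ h, hP, f' ∘ f, e.trans e', fun x hx => ?_, he.comp hfi (he'.restrict hle), ?_⟩
    · show f' (f x) = _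
      have h1 : f x ∈ Q := by rw [hf x hx]; exact h _
      rw [hf' _ h1]
      show ψ ⟨f x, h1⟩ = ψ ⟨φ ⟨x, hx⟩, _⟩
      congr 1
      exact Subtype.ext (hf x hx)
    · have h2 := Tr_comp (G := S) (t := fun g : S => t g) D.tau (f := e') (g := e)
        (he'.req hfi') (he.req hfi)
      show Tr S τ (e' ∘ e) = 0
      rw [h2, h0, h0', add_zero]
  inv_mem := by
    rintro P φ ⟨hφ, hP, f, e, hf, he, h0⟩
    obtain ⟨ψ, hψ, hψe⟩ := F.inv_mem hφ
    have hfi : Iso F P φ.range f := iso_of_hom hφ hf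
    obtain ⟨g, hg⟩ := exists_fun ψ
    have hgf : ∀ x ∈ P, g (f x) = x := by
      intro x hx
      have h1 : f x ∈ φ.range := hfi.mem hx
      rw [hg _ h1]
      have h2 : (⟨f x, h1⟩ : φ.range) = ⟨φ ⟨x, hx⟩, MonoidHom.mem_range.2 ⟨_, rfl⟩⟩ := Subtype.ext (hf x hx)
      rw [h2]
      exact hψe ⟨x, hx⟩
    refine ⟨ψ, ⟨hψ, ?_, g, e.symm, hg, he.symm hfi hgf, ?_⟩, hψe⟩
    · rintro _ ⟨x, rfl⟩
      rw [← hM _ ((F.le_of_mem hφ).2 x)]
      have h1 := D.inv _ _ f hfi x x.2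
      rw [hf x x.2] at h1
      have h2 : (⟨(x : Ω), x.2⟩ : P) = x := rfl
      rw [h2] at h1
      rw [h1, hM _ (hMS (hP x.2))]
      exact hP x.2
    · rw [Tr_symm (t := fun g : S => t g) D.tau (he.req hfi), h0, neg_zero]

variable {M : Subgroup Ω} {hMS : M ≤ S} {hM : ∀ a ∈ S, t a = 0 ↔ a ∈ M} (D : Dat p F t X τ)

theorem iso_subsys_iff {P Q : Subgroup Ω} {f : Ω → Ω} :
    Iso (subsys F hMS D hM) P Q f ↔ Iso F P Q f ∧ P ≤ M ∧ ∃ e : X ≃ X, Cov S P f e ∧ Tr S τ e = 0 := by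
  constructor
  · rintro ⟨φ, ⟨hφ, hP, f', e, hf', he, h0⟩, hr, hfe⟩
    refine ⟨⟨φ, hφ, hr, hfe⟩, hP, e, he.congr (fun x hx => ?_), h0⟩
    rw [hf' x hx, hfe x hx]
  · rintro ⟨⟨φ, hφ, hr, hfe⟩, hP, e, he, h0⟩
    exact ⟨φ, ⟨hφ, hP, f, e, fun x hx => (hfe x hx).symm, he, h0⟩, hr, hfe⟩

theorem subsys_le (P : Subgroup Ω) : (subsys F hMS D hM).Hom P ⊆ F.Hom P := fun _ h => h.1

/-- the automorphism groups -/
theorem mem_autGroup_subsys {P : Subgroup Ω} (hP : P ≤ M) {α : MulAut P} {f : Ω → Ω}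
    (hf : ∀ x : P, f x = (α x : P)) :
    α ∈ (subsys F hMS D hM).autGroup P ↔ α ∈ F.autGroup P ∧ ∃ e : X ≃ X, Cov S P f e ∧ Tr S τ e = 0 := by
  constructor
  · intro h
    have h1 := (iso_subsys_iff D).1 (iso_of_aut_eq hP h hf)
    exact ⟨autGroup_of_iso h1.1 (fun x => (hf x).symm), h1.2.2⟩
  · rintro ⟨h, e, he, h0⟩
    exact autGroup_of_iso ((iso_subsys_iff D).2 ⟨iso_of_aut_eq (hP.trans hMS) h hf, hP, e, he, h0⟩)
      (fun x => (hf x).symm)

include D in
/-- powers of a covering bijection -/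
theorem cov_pow {P : Subgroup Ω} {f : Ω → Ω} (hf : Iso F P P f) {e : X ≃ X} (he : Cov S P f e)
    (k : ℕ) : Iso F P P f^[k] ∧ ∃ e' : X ≃ X, Cov S P f^[k] e' ∧ Tr S τ e' = k * Tr S τ e := by
  induction k with
  | zero =>
    refine ⟨Iso.refl F hf.le_left, Equiv.refl X, fun g s x h hg => rfl, ?_⟩
    show Tr S τ (id : X → X) = _
    rw [Tr_id]
    simp
  | succ k ih =>
    obtain ⟨h1, e', he', h2⟩ := ih
    rw [Function.iterate_succ]
    refine ⟨hf.trans h1, e.trans e', he.comp hf he', ?_⟩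
    have h3 := Tr_comp (G := S) (t := fun g : S => t g) D.tau (f := e') (g := e) (he'.req h1) (he.req hf)
    show Tr S τ (e' ∘ e) = _
    rw [h3, h2]
    push_cast
    ring

/-- elements of order prime to `p` are in the subsystem -/
theorem coprime_mem_subsys {P : Subgroup Ω} (hP : P ≤ M) {α : MulAut P} (hα : α ∈ F.autGroup P)
    (hc : Nat.Coprime (orderOf α) p) : α ∈ (subsys F hMS D hM).autGroup P := by
  have hPS : P ≤ S := hP.trans hMS
  obtain ⟨f, hf, hfe⟩ := exists_iso_of_aut hPS hα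
  obtain ⟨e, he⟩ := D.stable P P f hf
  have he : Cov S P f e := he
  obtain ⟨k, hk1, hk2⟩ := Nat.chineseRemainder hc 1 0
  have hpow : ∀ (j : ℕ) (x : P), f^[j] x = ((α ^ j) x : P) := by
    intro j
    induction j with
    | zero => intro x; simp
    | succ j ih =>
      intro x
      rw [Function.iterate_succ', Function.comp_apply, ih, pow_succ', MulAut.mul_apply, hfe]
  obtain ⟨h1, e', he', h2⟩ := cov_pow D hf he k
  have hαk : α ^ k = α := by
    have : α ^ k = α ^ 1 := by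
      rw [pow_eq_pow_iff_modEq]
      exact hk1
    rw [this, pow_one]
  refine (mem_autGroup_subsys D hP (f := f^[k]) (fun x => by rw [hpow, hαk])).2 ⟨hα, e', he', ?_⟩
  rw [h2]
  have : ((k : ℕ) : ZMod p) = 0 := (ZMod.natCast_eq_zero_iff k p).2 ((Nat.modEq_zero_iff_dvd).1 hk2)
  rw [this, zero_mul]

/-- Frattini-type factorization -/
theorem exists_mod_left {s₀ : Ω} (hs₀ : s₀ ∈ S) (hts₀ : t s₀ ≠ 0) {P Q : Subgroup Ω} (hP : P ≤ M) {f : Ω → Ω}
    (hf : Iso F P Q f) : ∃ s ∈ S, ∃ Q', Iso (subsys F hMS D hM) P Q' (fun x => s * f x * s⁻¹) := by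
  obtain ⟨e, he⟩ := D.stable P Q f hf
  have he : Cov S P f e := he
  -- an element with prescribed value of `t`
  have hpow : ∀ k : ℕ, t (s₀ ^ k) = k * t s₀ := by
    intro k
    induction k with
    | zero => simp [D.one]
    | succ k ih =>
      rw [pow_succ, D.add _ (pow_mem hs₀ k) _ hs₀, ih]
      push_cast
      ring
  set N : ZMod p := (Nat.card (Quotient (rel S X)) : ZMod p) with hN
  have hN0 : N ≠ 0 := D.card
  set k := (-(Tr S τ e) / (N * t s₀)).val with hk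
  have hts : t (s₀ ^ k) = -(Tr S τ e) / N := by
    rw [hpow, hk, ZMod.natCast_zmod_val]
    field_simp
  have hsS : s₀ ^ k ∈ S := pow_mem hs₀ k
  refine ⟨s₀ ^ k, hsS, Q.map (MulAut.conj (s₀ ^ k)).toMonoidHom, (iso_subsys_iff D).2 ⟨?_, hP,
    e.trans (lm X (⟨s₀ ^ k, hsS⟩ : S)), ?_, ?_⟩⟩
  · have h1 : Iso F Q (Q.map (MulAut.conj (s₀ ^ k)).toMonoidHom) (fun x => s₀ ^ k * x * (s₀ ^ k)⁻¹) :=
      ⟨conjHom Q (s₀ ^ k), F.conj_mem hf.le_right hsS, by
        ext y
        constructor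
        · rintro ⟨x, rfl⟩
          exact ⟨x, x.2, rfl⟩
        · rintro ⟨x, hx, rfl⟩
          exact ⟨⟨x, hx⟩, rfl⟩, fun x hx => rfl⟩
    exact hf.trans h1
  · exact he.comp hf (cov_lm Q (⟨s₀ ^ k, hsS⟩ : S))
  · have h3 := Tr_comp (G := S) (t := fun g : S => t g) D.tau (f := lm X (⟨s₀ ^ k, hsS⟩ : S)) (g := e)
      (REq_lm _) (he.req hf)
    show Tr S τ (lm X (⟨s₀ ^ k, hsS⟩ : S) ∘ e) = 0
    rw [h3, Tr_lm (t := fun g : S => t g) D.tau D.one]
    show N * t (s₀ ^ k) + _ = 0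
    rw [hts]
    field_simp
    ring

/-- The key property: conjugation by `s` is in the subsystem only if `s` acts like an element of `M`. -/
theorem key_conj (hS : IsPGroup p S) (hF : F.IsSaturated p) {Q Q' : Subgroup Ω} (hQ : F.IsFullyCentralized Q)
    {s : Ω} (hs : s ∈ S) (h : Iso (subsys F hMS D hM) Q Q' (fun x => s * x * s⁻¹)) :
    ∃ m ∈ M, ∀ x ∈ Q, s * x * s⁻¹ = m * x * m⁻¹ := by
  obtain ⟨h1, hQM, e, he, h0⟩ := (iso_subsys_iff D).1 h
  by_cases hC : ∀ u ∈ centralizerIn S Q, t u = 0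
  · -- thin
    refine ⟨s, ?_, fun x _ => rfl⟩
    rw [← hM s hs]
    have hQS : Q ≤ S := hQ.1
    have hrec := isReceptive_of_isFullyCentralized hS hF hQ
    have hthin : ∀ (P' : Subgroup Ω) (f : Ω → Ω), Iso F Q P' f → ∀ u ∈ centralizerIn S P', t u = 0 := by
      intro P' f hf u hu
      obtain ⟨g, hg, -, -⟩ := hf.exists_inv
      have hP'S : P' ≤ S := hf.le_right
      obtain ⟨N', f', hf', hfe'⟩ := extend_of_receptive hrec hg (P' ⊔ centralizerIn S P') (by
        intro y hy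
        have hyN : y ∈ normalizerIn S P' := (sup_le (le_normalizerIn hP'S)
          (centralizerIn_le_normalizerIn S P')) hy
        refine ⟨hyN.1, hyN.2, ?_⟩
        have hCn : P' ≤ Subgroup.normalizer ((centralizerIn S P' : Subgroup Ω) : Set Ω) := by
          intro a ha
          rw [Subgroup.mem_normalizer_iff]
          have key : ∀ a ∈ P', ∀ c ∈ centralizerIn S P', a * c * a⁻¹ ∈ centralizerIn S P' := by
            intro a ha c hc
            have h2 : a * c = c * a := Subgroup.mem_centralizer_iff.1 hc.2 a ha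
            rw [h2, mul_inv_cancel_right]
            exact hc
          intro c
          refine ⟨fun hc => key a ha c hc, fun hc => ?_⟩
          have := key a⁻¹ (inv_mem ha) _ hc
          simpa [mul_assoc] using this
        obtain ⟨a, ha, c, hc, rfl⟩ := (H759.mem_sup_of_normalizes hCn).1 hy
        refine ⟨g a, hg.le_right (hg.mem ha), fun x hx => ?_⟩
        have h2 : c * x * c⁻¹ = x := by
          have h3 : x * c = c * x := Subgroup.mem_centralizer_iff.1 hc.2 x hx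
          rw [← h3, mul_inv_cancel_right]
        have h4 : a * c * x * (a * c)⁻¹ = a * x * a⁻¹ := by
          calc a * c * x * (a * c)⁻¹ = a * (c * x * c⁻¹) * a⁻¹ := by group
            _ = a * x * a⁻¹ := by rw [h2]
        rw [h4, hg.map_conj ha hx]) le_sup_left
      have hle : P' ≤ P' ⊔ centralizerIn S P' := le_sup_left
      have hu' : u ∈ P' ⊔ centralizerIn S P' := (le_sup_right : centralizerIn S P' ≤ _) hu
      rw [← D.inv _ _ f' hf' u hu']
      apply hC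
      refine ⟨hf'.le_right (hf'.mem hu'), ?_⟩
      show f' u ∈ Subgroup.centralizer (Q : Set Ω)
      rw [Subgroup.mem_centralizer_iff]
      intro x hx
      obtain ⟨y, hy, rfl⟩ := hg.surj hx
      have h2 : y * u = u * y := Subgroup.mem_centralizer_iff.1 hu.2 y hy
      rw [← hfe' y hy, ← hf'.map_mul (hle hy) hu', h2, hf'.map_mul hu' (hle hy)]
    -- compose with left multiplication by the inverse
    have h5 : Cov S Q ((fun x => ((⟨s⁻¹, inv_mem hs⟩ : S) : Ω) * x * ((⟨s⁻¹, inv_mem hs⟩ : S) : Ω)⁻¹) ∘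
        (fun x => s * x * s⁻¹)) (e.trans (lm X (⟨s⁻¹, inv_mem hs⟩ : S))) := he.comp h1 (cov_lm Q' _)
    have h6 : Cov S Q id (e.trans (lm X (⟨s⁻¹, inv_mem hs⟩ : S))) := h5.congr (fun x _ => by
      show x = s⁻¹ * (s * x * s⁻¹) * s⁻¹⁻¹
      group)
    have h7 := D.tr_thin hS hQS hthin h6
    have h3 := Tr_comp (G := S) (t := fun g : S => t g) D.tau (f := lm X (⟨s⁻¹, inv_mem hs⟩ : S)) (g := e)
      (REq_lm _) (he.req h1)
    have h8 : Tr S τ (lm X (⟨s⁻¹, inv_mem hs⟩ : S) ∘ e) = 0 := h7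
    rw [h3, Tr_lm (t := fun g : S => t g) D.tau D.one, h0, add_zero] at h8
    have h9 : t s⁻¹ = 0 := (mul_eq_zero.1 h8).resolve_left D.card
    rw [D.map_inv hs] at h9
    exact neg_eq_zero.1 h9
  · push Not at hC
    obtain ⟨u, hu, htu⟩ := hC
    have hpow : ∀ k : ℕ, t (u ^ k) = k * t u := by
      intro k
      induction k with
      | zero => simp [D.one]
      | succ k ih =>
        rw [pow_succ, D.add _ (pow_mem hu.1 k) _ hu.1, ih]
        push_cast
        ring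
    set k := (-(t s) / t u).val with hk
    have hts : t (u ^ k) = - t s := by
      rw [hpow, hk, ZMod.natCast_zmod_val]
      field_simp
    refine ⟨s * u ^ k, ?_, fun x hx => ?_⟩
    · rw [← hM _ (mul_mem hs (pow_mem hu.1 k)), D.add s hs _ (pow_mem hu.1 k), hts, add_neg_cancel]
    · have h2 : x * u ^ k = u ^ k * x := Subgroup.mem_centralizer_iff.1 (pow_mem hu.2 k) x hx
      calc s * x * s⁻¹ = s * (x * u ^ k * (u ^ k)⁻¹) * s⁻¹ := by group
        _ = s * (u ^ k * x * (u ^ k)⁻¹) * s⁻¹ := by rw [h2]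
        _ = s * u ^ k * x * (s * u ^ k)⁻¹ := by group

end

end Cfsg.Agent.H750
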