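import Cfsg.Agent.H750.IndexPSat
import Cfsg.Agent.H802.FusGroup

/-! # Subsystems of `p`-power index: factorisation of maps (helper750)

`exists_factor`: let `F` be saturated over the finite `p`-group `S`, `T ≤ S` normal in `S` and containing the
hyperfocal subgroup, and `E` the saturated subsystem over `T` of `p`-power index.  Every isomorphism `f : P → Q`
of `F` with `P ≤ T` becomes an isomorphism of `E` after composing it with conjugation by an element of `S`. -/

set_option autoImplicit false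
open Cfsg

namespace Cfsg.Agent.H750

universe u
variable {Ω : Type u} [Group Ω] {S : Subgroup Ω}

open Cfsg.Agent.H802 Cfsg.Agent.H759

theorem exists_index_p_factor {p : ℕ} [Fact p.Prime] [Finite S] (hS : IsPGroup p S) {F : FusionSystem S}
    (hF : F.IsSaturated p) {M : Subgroup Ω} (hMS : M ≤ S) (hn : (M.subgroupOf S).Normal)
    (hidx : (M.subgroupOf S).index = p) (hhyp : F.hyperfocalSubgroup p ≤ M) :
    ∃ E : FusionSystem M, E.IsSaturated p ∧ E.HasPPowerIndexIn F p ∧
      ∀ (P Q : Subgroup Ω) (f : Ω → Ω), P ≤ M → Iso F P Q f →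
        ∃ s ∈ S, ∃ Q' : Subgroup Ω, Iso E P Q' (fun x => s * f x * s⁻¹) := by
  obtain ⟨t, hadd, hM, s₀, hs₀, hts₀⟩ := exists_t (p := p) hn hidx
  obtain ⟨X, hX, hfin, τ, D⟩ := exists_dat hS hF t hadd
    (fun P Q f hf => inv_of_hyperfocal hS hF hhyp hadd hM P Q f hf)
  refine ⟨subsys F hMS D hM, subsys_isSaturated D hS hF hs₀ hts₀, ?_, fun P Q f hP hf =>
    exists_mod_left (hMS := hMS) (hM := hM) D hs₀ hts₀ hP hf⟩
  rw [hasPPowerIndexIn_iff]
  exact ⟨fun P => subsys_le D P, hhyp, fun P hP α hα hc => coprime_mem_subsys D hP hα hc⟩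

/-- Between a proper subgroup `T` of the finite `p`-group `S` and `S` there is a normal subgroup of index `p`. -/
theorem exists_index_p_between {p : ℕ} [Fact p.Prime] [Finite S] (hS : IsPGroup p S) {T : Subgroup Ω}
    (hTS : T ≤ S) (hT : T ≠ S) : ∃ M : Subgroup Ω, T ≤ M ∧ M ≤ S ∧ (M.subgroupOf S).Normal ∧
      (M.subgroupOf S).index = p ∧ Nat.card M < Nat.card S := by
  obtain ⟨a, ha⟩ := IsPGroup.iff_card.1 hS
  have hfinT : Finite T := finite_of_le hTS
  obtain ⟨b, hb⟩ := IsPGroup.iff_card.1 (hS.to_le hTS)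
  have hlt := card_lt_of_lt le_rfl (lt_of_le_of_ne hTS hT)
  have hp : p.Prime := Fact.out
  have hba : b < a := by
    rw [ha, hb] at hlt
    exact (Nat.pow_lt_pow_iff_right hp.one_lt).1 hlt
  have hdvd : p ^ (a - 1) ∣ Nat.card S := by
    rw [ha]; exact pow_dvd_pow p (Nat.sub_le a 1)
  have hTc : Nat.card (T.subgroupOf S) = p ^ b := by
    rw [Nat.card_congr (Subgroup.subgroupOfEquivOfLe hTS).toEquiv, hb]
  obtain ⟨K, hK, hTK⟩ := Sylow.exists_subgroup_card_pow_prime_le p hdvd (T.subgroupOf S) hTc (by omega)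
  have hidx : K.index = p := by
    have h1 := K.card_mul_index
    rw [hK, ha] at h1
    have h2 : p ^ a = p ^ (a - 1) * p := by
      rw [← pow_succ]; congr 1; omega
    rw [h2] at h1
    exact Nat.eq_of_mul_eq_mul_left (pow_pos hp.pos _) h1
  have hKn : K.Normal := by
    apply Subgroup.normal_of_index_eq_minFac_card
    rw [hidx, ha, Nat.Prime.pow_minFac hp (by omega)]
  have hMK : (K.map S.subtype).subgroupOf S = K := by
    rw [Subgroup.subgroupOf, Subgroup.comap_map_eq_self_of_injective (Subgroup.subtype_injective S)]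
  refine ⟨K.map S.subtype, fun x hx => ⟨⟨x, hTS hx⟩, hTK (Subgroup.mem_subgroupOf.2 hx), rfl⟩, ?_,
    by rw [hMK]; exact hKn, by rw [hMK]; exact hidx, ?_⟩
  · rintro _ ⟨x, -, rfl⟩
    exact x.2
  · have h1 : Nat.card (K.map S.subtype) = p ^ (a - 1) := by
      rw [← hK]
      exact Nat.card_congr (K.equivMapOfInjective _ (Subgroup.subtype_injective S)).symm.toEquiv
    have h2 : p ^ (a - 1) < p ^ a := Nat.pow_lt_pow_right hp.one_lt (by omega)
    omega

theorem eq_of_pPowerIndex {p : ℕ} [Fact p.Prime] [Finite S] (hS : IsPGroup p S) {F : FusionSystem S}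
    {T : Subgroup Ω} (hTS : T ≤ S) {E E' : FusionSystem T} (hE : E.IsSaturated p) (hE' : E'.IsSaturated p)
    (h : E.HasPPowerIndexIn F p) (h' : E'.HasPPowerIndexIn F p) : E = E' :=
  fusionSystem_ext (fun P => Set.Subset.antisymm (le_of_pPowerIndex hS hTS hE h' h P)
    (le_of_pPowerIndex hS hTS hE' h h' P))

/-- `p`-power index is transitive. -/
theorem HasPPowerIndexIn.trans {p : ℕ} [Fact p.Prime] [Finite S] {F : FusionSystem S}
    {M T : Subgroup Ω} (hMS : M ≤ S) (hTM : T ≤ M) {E : FusionSystem M} {E' : FusionSystem T}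
    (hT : F.hyperfocalSubgroup p ≤ T)
    (h : E.HasPPowerIndexIn F p) (h' : E'.HasPPowerIndexIn E p) : E'.HasPPowerIndexIn F p := by
  have hfinM : Finite M := finite_of_le hMS
  rw [hasPPowerIndexIn_iff] at h h' ⊢
  obtain ⟨h1, h2, h3⟩ := h
  obtain ⟨h4, h5, h6⟩ := h'
  exact ⟨fun P => (h4 P).trans (h1 P), hT, fun P hP α hα hc => h6 P hP α (h3 P (hP.trans hTM) α hα hc) hc⟩

theorem exists_factor {p : ℕ} [Fact p.Prime] (n : ℕ) : ∀ {S : Subgroup Ω} [Finite S],
    IsPGroup p S → Nat.card S ≤ n → ∀ {F : FusionSystem S}, F.IsSaturated p → ∀ {T : Subgroup Ω}, T ≤ S →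
      (∀ g ∈ S, ∀ x ∈ T, g * x * g⁻¹ ∈ T) →
      F.hyperfocalSubgroup p ≤ T → ∀ {E : FusionSystem T}, E.IsSaturated p → E.HasPPowerIndexIn F p →
      ∀ (P Q : Subgroup Ω) (f : Ω → Ω), P ≤ T → Q ≤ T → Iso F P Q f →
        ∃ s ∈ S, ∃ Q' : Subgroup Ω, Iso E P Q' (fun x => s * f x * s⁻¹) := by
  induction n with
  | zero =>
    intro S hfin hS hn
    have : 0 < Nat.card S := Nat.card_pos
    omega
  | succ n ih =>
    intro S hfin hS hn F hF T hTS hTn hhyp E hE hEF P Q f hP hQ hf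
    by_cases hT : T = S
    · subst hT
      have h1 : F.HasPPowerIndexIn F p :=
        (hasPPowerIndexIn_iff F).2 ⟨fun P => subset_rfl, hhyp, fun P _ α hα _ => hα⟩
      have h2 := eq_of_pPowerIndex hS hTS hE hF hEF h1
      subst h2
      exact ⟨1, one_mem _, Q, hf.congr (fun x hx => by simp)⟩
    obtain ⟨M, hTM, hMS, hMn, hidx, hcard⟩ := exists_index_p_between hS hTS hT
    obtain ⟨EM, hEM, hEMF, hfac⟩ := exists_index_p_factor hS hF hMS hMn hidx (hhyp.trans hTM)
    have hfinM : Finite M := finite_of_le hMS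
    have hhypM : EM.hyperfocalSubgroup p ≤ T :=
      (hyperfocal_le_of hMS ((hasPPowerIndexIn_iff EM).1 hEMF).1).trans hhyp
    obtain ⟨E', hE', hE'M⟩ := exists_pPowerIndex (Nat.card M) (hS.to_le hMS) le_rfl hEM hTM hhypM
    have h3 := eq_of_pPowerIndex hS hTS hE hE' hEF (HasPPowerIndexIn.trans hMS hTM hhyp hEMF hE'M)
    subst h3
    obtain ⟨s, hs, Q', hQ'⟩ := hfac P Q f (hP.trans hTM) hf
    have hQ'T : Q' ≤ T := by
      intro y hy
      obtain ⟨x, hx, rfl⟩ := hQ'.surj hy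
      exact hTn s hs _ (hQ (hf.mem hx))
    obtain ⟨r, hr, Q'', hQ''⟩ := ih (hS.to_le hMS) (by omega) hEM hTM (fun g hg => hTn g (hMS hg)) hhypM hE' hE'M
      P Q' _ hP hQ'T hQ'
    refine ⟨r * s, mul_mem (hMS hr) hs, Q'', hQ''.congr (fun x hx => ?_)⟩
    group

end Cfsg.Agent.H750
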