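import Cfsg.Agent.H750.SatCritA
import Cfsg.Agent.H759.FusLift

/-!
# The saturation criterion, second part: automorphisms of the top member of a conjugacy class
-/

set_option autoImplicit false

namespace Cfsg.Agent.H750

open Cfsg Cfsg.FusionSystem Cfsg.Agent.H802

variable {Ω : Type*} [Group Ω] {S : Subgroup Ω} {F : FusionSystem S}

/-- Every subgroup of `Aut_F(P₀)` containing the automorphisms which extend to a properly larger subgroup of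
`N_S(P₀)` is everything. -/
theorem aut_gen {p : ℕ} [Fact p.Prime] [Finite S] (hS : IsPGroup p S) {P₀ : Subgroup Ω}
    (htop : ∀ Q, F.IsConj P₀ Q → Arr F Q P₀) (hP₀S : P₀ ≤ S)
    (hgen : ∀ (Q Q' : Subgroup Ω) (f : Ω → Ω), F.IsConj P₀ Q → Iso F Q Q' f → Gen F Q Q' f)
    (M : (Ω → Ω) → Prop) (hMc : ∀ f g : Ω → Ω, (∀ x ∈ P₀, g x = f x) → M f → M g)
    (hMm : ∀ f g : Ω → Ω, Iso F P₀ P₀ f → Iso F P₀ P₀ g → M f → M g → M (g ∘ f))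
    (hM : ∀ (R R' : Subgroup Ω) (f : Ω → Ω), P₀ < R → R ≤ normalizerIn S P₀ → Iso F R R' f →
      Iso F P₀ P₀ f → M f) {f : Ω → Ω} (hf : Iso F P₀ P₀ f) : M f := by
  have key : ∀ (Q Q' : Subgroup Ω) (f : Ω → Ω), Gen F Q Q' f → F.IsConj P₀ Q →
      ∀ (χ χ' : Ω → Ω) (N N' : Subgroup Ω), Iso F (normalizerIn S Q) N χ → Iso F Q P₀ χ →
      Iso F (normalizerIn S Q') N' χ' → Iso F Q' P₀ χ' →
      ∀ a : Ω → Ω, Iso F P₀ P₀ a → (∀ x ∈ Q, a (χ x) = χ' (f x)) → M a := by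
    intro Q Q' f h
    induction h with
    | base Q Q' R R' f h h1 h2 h3 h4 =>
      intro hc χ χ' N N' hχ hχQ hχ' hχQ' a ha hae
      have h5 : Iso F Q Q' f := h3.congr (fun x hx => (h4 x hx).symm)
      obtain ⟨g, hg, hgQ, hgn⟩ := H759.exists_mem_normalizer_not_mem hS h2.le_left h1
      obtain ⟨R₁', hR₁', -⟩ := h2.restrict (R := R ⊓ normalizerIn S Q) inf_le_left
      have hle : Q ≤ R ⊓ normalizerIn S Q := le_inf h1.le (le_normalizerIn h3.le_left)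
      have hgN : g ∈ R ⊓ normalizerIn S Q := ⟨hg, h2.le_left hg, hgn⟩
      -- the transported map
      obtain ⟨T, hT, hTN⟩ := hχ.restrict (R := R ⊓ normalizerIn S Q) inf_le_right
      obtain ⟨ψ, hψ, hψQ, hψχ, -⟩ := hT.inv_restrict hχQ hle
      have hR₁'N : R₁' ≤ normalizerIn S Q' := hR₁'.le_normalizerIn h5 hle (inf_le_right.trans inf_le_right)
      obtain ⟨T', hT', -⟩ := hχ'.restrict hR₁'N
      have hall := (hψ.trans hR₁').trans hT'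
      have hall0 := (hψQ.trans h5).trans hχQ'
      have hP₀T : P₀ < T := by
        refine lt_of_le_of_ne (hT.le_of_le hχQ hle) (fun he => hgQ ?_)
        have h6 : χ g ∈ P₀ := by
          rw [he]
          exact hT.mem hgN
        exact (hT.mem_iff_mem hχQ hle hgN).1 h6
      have hTN : T ≤ normalizerIn S P₀ := hT.le_normalizerIn hχQ hle (inf_le_right.trans inf_le_right)
      have h7 := hM T T' _ hP₀T hTN hall hall0
      refine hMc _ _ (fun y hy => ?_) h7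
      obtain ⟨x, hx, rfl⟩ := hχQ.surj hy
      rw [hae x hx, h4 x hx]
      show _ = χ' (f (ψ (χ x)))
      rw [hψχ x (hle hx)]
    | comp Q Q' Q'' f g h h1 h2 h3 ih1 ih2 =>
      intro hc χ χ' N N' hχ hχQ hχ' hχQ' a ha hae
      have hc' : F.IsConj P₀ Q' := isConj_trans hc h1.iso.isConj
      obtain ⟨ω, W, hω, hωQ⟩ := htop Q' hc'
      obtain ⟨ψ, hψ, hψχ, hχψ⟩ := hχQ.exists_inv
      obtain ⟨ω', hω', hω'ω, hωω'⟩ := hωQ.exists_inv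
      have ha1 : Iso F P₀ P₀ (ω ∘ (f ∘ ψ)) := (hψ.trans h1.iso).trans hωQ
      have ha2 : Iso F P₀ P₀ (χ' ∘ (g ∘ ω')) := (hω'.trans h2.iso).trans hχQ'
      have hM1 := ih1 hc χ ω N W hχ hχQ hω hωQ _ ha1 (fun x hx => by
        show ω (f (ψ (χ x))) = _
        rw [hψχ x hx])
      have hM2 := ih2 hc' ω χ' W N' hω hωQ hχ' hχQ' _ ha2 (fun x hx => by
        show χ' (g (ω' (ω x))) = _
        rw [hω'ω x hx])
      refine hMc _ _ (fun y hy => ?_) (hMm _ _ ha1 ha2 hM1 hM2)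
      obtain ⟨x, hx, rfl⟩ := hχQ.surj hy
      rw [hae x hx, h3 x hx]
      show _ = χ' (g (ω' (ω (f (ψ (χ x))))))
      rw [hψχ x hx, hω'ω _ (h1.iso.mem hx)]
  exact key P₀ P₀ f (hgen P₀ P₀ f (isConj_refl F hP₀S) hf) (isConj_refl F hP₀S) id id _ _
    (Iso.refl F inf_le_left) (Iso.refl F hP₀S) (Iso.refl F inf_le_left) (Iso.refl F hP₀S) f hf
    (fun x _ => rfl)

/-- A family of subgroups of the automorphism groups, natural for the isomorphisms of the system and containing the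
inner automorphisms. -/
structure NatFam (F : FusionSystem S) (L : ∀ Q : Subgroup Ω, Subgroup (MulAut Q)) : Prop where
  nat : ∀ (Q Q' : Subgroup Ω) (f : Ω → Ω), Iso F Q Q' f → ∀ (α : MulAut Q) (β : MulAut Q'), α ∈ L Q →
    (∀ (x : Q) (h : f x ∈ Q'), ((β ⟨f x, h⟩ : Q') : Ω) = f (α x)) → β ∈ L Q'
  inn : ∀ Q : Subgroup Ω, Q ≤ S → ∀ g ∈ Q, ∀ α : MulAut Q, (∀ x : Q, ((α x : Q) : Ω) = g * x * g⁻¹) → α ∈ L Q

/-- The elements of `N_S(Q)` inducing on `Q` a member of `L Q`. -/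
def XL (S : Subgroup Ω) (L : ∀ Q : Subgroup Ω, Subgroup (MulAut Q)) (Q : Subgroup Ω) : Subgroup Ω where
  carrier := {g | g ∈ normalizerIn S Q ∧ ∃ α ∈ L Q, ∀ x : Q, ((α x : Q) : Ω) = g * x * g⁻¹}
  one_mem' := ⟨one_mem _, 1, one_mem _, fun x => by simp⟩
  mul_mem' := by
    rintro a b ⟨ha, α, hα, hαe⟩ ⟨hb, β, hβ, hβe⟩
    refine ⟨mul_mem ha hb, α * β, mul_mem hα hβ, fun x => ?_⟩
    show ((α (β x) : Q) : Ω) = _
    rw [hαe, hβe]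
    group
  inv_mem' := by
    rintro a ⟨ha, α, hα, hαe⟩
    refine ⟨inv_mem ha, α⁻¹, inv_mem hα, fun x => ?_⟩
    have h1 := hαe (α⁻¹ x)
    rw [MulAut.apply_inv_self] at h1
    rw [h1]
    group

theorem mem_XL {L : ∀ Q : Subgroup Ω, Subgroup (MulAut Q)} {Q : Subgroup Ω} {g : Ω} :
    g ∈ XL S L Q ↔ g ∈ normalizerIn S Q ∧ ∃ α ∈ L Q, ∀ x : Q, ((α x : Q) : Ω) = g * x * g⁻¹ := Iff.rfl

theorem XL_le (L : ∀ Q : Subgroup Ω, Subgroup (MulAut Q)) (Q : Subgroup Ω) :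
    XL S L Q ≤ normalizerIn S Q := fun _ h => h.1

theorem NatFam.le_XL {L : ∀ Q : Subgroup Ω, Subgroup (MulAut Q)} (hL : NatFam F L) {Q : Subgroup Ω}
    (hQ : Q ≤ S) : Q ≤ XL S L Q := by
  intro g hg
  have h1 : g ∈ normalizerIn S Q := le_normalizerIn hQ hg
  refine ⟨h1, H759.conjAut Q g h1.2, hL.inn Q hQ g hg _ (fun x => rfl), fun x => rfl⟩

theorem NatFam.map_XL {L : ∀ Q : Subgroup Ω, Subgroup (MulAut Q)} (hL : NatFam F L)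
    {N N' Q Q' : Subgroup Ω} {f : Ω → Ω} (hN : Iso F N N' f) (hQ : Iso F Q Q' f) (hQN : Q ≤ N)
    (hNQ : N ≤ normalizerIn S Q) {g : Ω} (hg : g ∈ N) (hgX : g ∈ XL S L Q) : f g ∈ XL S L Q' := by
  obtain ⟨h1, α, hα, hαe⟩ := hgX
  have h2 : f g ∈ normalizerIn S Q' :=
    hN.le_normalizerIn hQ hQN (hNQ.trans inf_le_right) (hN.mem hg)
  refine ⟨h2, H759.conjAut Q' (f g) h2.2, hL.nat Q Q' f hQ α _ hα (fun x h => ?_), fun x => rfl⟩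
  rw [H759.coe_conjAut, hαe, hN.map_conj hg (hQN x.2)]

theorem NatFam.conj_XL {L : ∀ Q : Subgroup Ω, Subgroup (MulAut Q)} (hL : NatFam F L)
    {Q : Subgroup Ω} (hQ : Q ≤ S) {n g : Ω} (hn : n ∈ normalizerIn S Q) (hg : g ∈ XL S L Q) :
    n * g * n⁻¹ ∈ XL S L Q := by
  have h1 : Iso F (normalizerIn S Q) (normalizerIn S Q) (fun x => n * x * n⁻¹) :=
    iso_conj F inf_le_left hn.1 (Subgroup.le_normalizer hn)
  have h2 : Iso F Q Q (fun x => n * x * n⁻¹) := iso_conj F hQ hn.1 hn.2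
  exact hL.map_XL h1 h2 (le_normalizerIn hQ) le_rfl hg.1 hg

theorem NatFam.le_normalizer_XL {L : ∀ Q : Subgroup Ω, Subgroup (MulAut Q)} (hL : NatFam F L)
    {Q : Subgroup Ω} (hQ : Q ≤ S) : normalizerIn S Q ≤ Subgroup.normalizer ((XL S L Q : Subgroup Ω) : Set Ω) := by
  intro n hn
  rw [Subgroup.mem_normalizer_iff]
  intro g
  refine ⟨fun h => hL.conj_XL hQ hn h, fun h => ?_⟩
  have := hL.conj_XL hQ (inv_mem hn) h
  simpa [mul_assoc] using this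

/-- The members of the stabilizer inducing a member of `L Q` on `Q`. -/
def KL (F : FusionSystem S) (L : ∀ Q : Subgroup Ω, Subgroup (MulAut Q)) (R Q : Subgroup Ω) :
    Subgroup (MulAut R) where
  carrier := {κ | κ ∈ stab F R Q ∧ ∃ α ∈ L Q, ∀ (x : Ω) (hx : x ∈ R) (hx' : x ∈ Q),
    ((α ⟨x, hx'⟩ : Q) : Ω) = (κ ⟨x, hx⟩ : R)}
  one_mem' := ⟨one_mem _, 1, one_mem _, fun x _ _ => rfl⟩
  mul_mem' := by
    rintro κ μ ⟨hκ, α, hα, hαe⟩ ⟨hμ, β, hβ, hβe⟩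
    refine ⟨mul_mem hκ hμ, α * β, mul_mem hα hβ, fun x hx hx' => ?_⟩
    rw [MulAut.mul_apply, MulAut.mul_apply]
    have h1 : β ⟨x, hx'⟩ = ⟨(μ ⟨x, hx⟩ : R), (hμ.2 ⟨x, hx⟩).1 hx'⟩ := Subtype.ext (hβe x hx hx')
    rw [h1]
    exact hαe _ (μ ⟨x, hx⟩).2 _
  inv_mem' := by
    rintro κ ⟨hκ, α, hα, hαe⟩
    refine ⟨inv_mem hκ, α⁻¹, inv_mem hα, fun x hx hx' => ?_⟩
    have h1 : ((κ⁻¹ ⟨x, hx⟩ : R) : Ω) ∈ Q := ((inv_mem hκ : κ⁻¹ ∈ stab F R Q).2 ⟨x, hx⟩).1 hx'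
    have h2 := hαe (κ⁻¹ ⟨x, hx⟩ : R) (κ⁻¹ ⟨x, hx⟩).2 h1
    have h3 : (⟨((κ⁻¹ ⟨x, hx⟩ : R) : Ω), (κ⁻¹ ⟨x, hx⟩).2⟩ : R) = κ⁻¹ ⟨x, hx⟩ := rfl
    rw [h3, MulAut.apply_inv_self] at h2
    have h4 : α ⟨((κ⁻¹ ⟨x, hx⟩ : R) : Ω), h1⟩ = ⟨x, hx'⟩ := Subtype.ext h2
    rw [← h4, MulAut.inv_apply_self]

theorem mem_KL {L : ∀ Q : Subgroup Ω, Subgroup (MulAut Q)} {R Q : Subgroup Ω} {κ : MulAut R} :
    κ ∈ KL F L R Q ↔ κ ∈ stab F R Q ∧ ∃ α ∈ L Q, ∀ (x : Ω) (hx : x ∈ R) (hx' : x ∈ Q),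
    ((α ⟨x, hx'⟩ : Q) : Ω) = (κ ⟨x, hx⟩ : R) := Iff.rfl

theorem KL_le (L : ∀ Q : Subgroup Ω, Subgroup (MulAut Q)) (R Q : Subgroup Ω) : KL F L R Q ≤ stab F R Q :=
  fun _ h => h.1

/-- restriction of a member of the stabilizer -/
theorem exists_res {R Q : Subgroup Ω} (hQR : Q ≤ R) {κ : MulAut R} (hκ : κ ∈ stab F R Q) :
    ∃ α : MulAut Q, ∀ (x : Ω) (hx : x ∈ R) (hx' : x ∈ Q), ((α ⟨x, hx'⟩ : Q) : Ω) = (κ ⟨x, hx⟩ : R) := by
  have hκ' : κ⁻¹ ∈ stab F R Q := inv_mem hκ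
  refine ⟨{ toFun := fun x => ⟨(κ ⟨x, hQR x.2⟩ : R), (hκ.2 _).1 x.2⟩
            invFun := fun x => ⟨(κ⁻¹ ⟨x, hQR x.2⟩ : R), (hκ'.2 _).1 x.2⟩
            left_inv := fun x => ?_
            right_inv := fun x => ?_
            map_mul' := fun x y => ?_ }, fun x hx hx' => rfl⟩
  · apply Subtype.ext
    show ((κ⁻¹ (κ ⟨x, _⟩) : R) : Ω) = x
    rw [MulAut.inv_apply_self]
  · apply Subtype.ext
    show ((κ (κ⁻¹ ⟨x, _⟩) : R) : Ω) = x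
    rw [MulAut.apply_inv_self]
  · apply Subtype.ext
    have h3 := congrArg (fun z : R => (z : Ω)) (_root_.map_mul κ ⟨(x : Ω), hQR x.2⟩ ⟨(y : Ω), hQR y.2⟩)
    exact h3

theorem NatFam.conj_KL {L : ∀ Q : Subgroup Ω, Subgroup (MulAut Q)} (hL : NatFam F L)
    {R Q : Subgroup Ω} (hQR : Q ≤ R) (hRS : R ≤ S) {a κ : MulAut R} (ha : a ∈ stab F R Q)
    (hκ : κ ∈ KL F L R Q) : a * κ * a⁻¹ ∈ KL F L R Q := by
  obtain ⟨hκs, α, hα, hαe⟩ := hκ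
  refine ⟨mul_mem (mul_mem ha hκs) (inv_mem ha), ?_⟩
  obtain ⟨f, hf, hfe⟩ := exists_iso_of_aut hRS ha.1
  have hfQ : Iso F Q Q f := by
    refine hf.restrict_of hQR (fun y => ?_)
    constructor
    · intro hy
      have ha' : a⁻¹ ∈ stab F R Q := inv_mem ha
      refine ⟨(a⁻¹ ⟨y, hQR hy⟩ : R), (ha'.2 _).1 hy, ?_⟩
      rw [hfe, MulAut.apply_inv_self]
    · rintro ⟨x, hx, rfl⟩
      have := (ha.2 ⟨x, hQR hx⟩).1 hx
      rwa [← hfe] at this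
  obtain ⟨β, hβe⟩ := exists_res hQR (mul_mem (mul_mem ha hκs) (inv_mem ha))
  refine ⟨β, hL.nat Q Q f hfQ α β hα (fun x h => ?_), hβe⟩
  rw [hβe (f x) (hQR h) h]
  have h1 : (⟨f x, hQR h⟩ : R) = a ⟨x, hQR x.2⟩ := Subtype.ext (hfe ⟨x, hQR x.2⟩)
  rw [h1, MulAut.mul_apply, MulAut.mul_apply, MulAut.inv_apply_self]
  have h2 := hαe x (hQR x.2) x.2
  have h3 : (κ ⟨x, hQR x.2⟩ : R) = ⟨(α x : Q), hQR (α x).2⟩ := Subtype.ext h2.symm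
  rw [h3, ← hfe]

/-- The Frattini-type property needed of the family `L`. -/
def Good (p : ℕ) (F : FusionSystem S) (L : ∀ Q : Subgroup Ω, Subgroup (MulAut Q)) (P : Subgroup Ω) : Prop :=
  ∀ R Q : Subgroup Ω, Q ≤ R → R ≤ normalizerIn S Q → F.IsConj P Q → Aligned p F R Q →
    ∀ γ ∈ stab F R Q, ∃ ν ∈ stab F R Q, (∀ (x : Ω) (hx : x ∈ R), x ∈ Q → ν ⟨x, hx⟩ = γ ⟨x, hx⟩) ∧
      ∀ b ∈ autInducedBy S R ⊓ KL F L R Q, ν * b * ν⁻¹ ∈ autInducedBy S R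

/-- Extension to a group containing a given further element. -/
theorem exists_ext_one {R Q : Subgroup Ω} {f : Ω → Ω} (hQ : F.IsReceptive Q) (hf : Iso F R Q f)
    (N₀ : Subgroup Ω) (hRN₀ : R ≤ N₀) (hN₀ : N₀ ≤ normalizerIn S R) {a : Ω} (ha : a ∈ N₀)
    (hah : ∃ h ∈ S, ∀ x ∈ R, f (a * x * a⁻¹) = h * f x * h⁻¹) :
    ∃ N N' f', N ≤ N₀ ∧ R ≤ N ∧ a ∈ N ∧ Iso F N N' f' ∧ ∀ x ∈ R, f' x = f x := by
  obtain ⟨φ, hφ, hr, hfe⟩ := id hf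
  have hRS := hf.le_left
  have hmem : ∀ g, g ∈ normalizerIn S R → (g ∈ extender S R φ ↔ ∃ h ∈ S, ∀ x ∈ R, f (g * x * g⁻¹) = h * f x * h⁻¹) := by
    intro g hg
    rw [mem_extender_iff]
    constructor
    · rintro ⟨-, h2, h, hh, h3⟩
      refine ⟨h, hh, fun x hx => ?_⟩
      have hx' : g * x * g⁻¹ ∈ R := (Subgroup.mem_normalizer_iff.1 h2 x).1 hx
      rw [← hfe _ hx', h3 ⟨x, hx⟩ hx', hfe x hx]
    · rintro ⟨h, hh, h3⟩
      refine ⟨hg.1, hg.2, h, hh, fun x hx => ?_⟩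
      rw [hfe _ hx, h3 x x.2, ← hfe x x.2]
  obtain ⟨N', f', hf', he⟩ := extend_of_receptive hQ hf (N₀ ⊓ extender S R φ) (by
      rintro g ⟨hg, hge⟩
      exact ⟨(hN₀ hg).1, (hN₀ hg).2, (hmem g (hN₀ hg)).1 hge⟩)
    (le_inf hRN₀ (le_extender hRS (fun x => (F.le_of_mem hφ).2 x)))
  exact ⟨_, N', f', inf_le_left, le_inf hRN₀ (le_extender hRS (fun x => (F.le_of_mem hφ).2 x)),
    ⟨ha, (hmem a (hN₀ ha)).2 hah⟩, hf', he⟩

end Cfsg.Agent.H750
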