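import Cfsg.Agent.H750.SatCritC

/-!
# The saturation criterion, fourth part: a fully automized receptive conjugate
-/

set_option autoImplicit false

namespace Cfsg.Agent.H750

open Cfsg Cfsg.FusionSystem Cfsg.Agent.H802

variable {Ω : Type*} [Group Ω] {S : Subgroup Ω} {F : FusionSystem S}

theorem Iso.inv_of {N N' Q Q' : Subgroup Ω} {f g : Ω → Ω} (hg : Iso F N' N g)
    (hgf : ∀ x ∈ N, g (f x) = x) (hN : Iso F N N' f) (hQ : Iso F Q Q' f) (hQN : Q ≤ N) : Iso F Q' Q g := by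
  refine hg.restrict_of (hN.le_of_le hQ hQN) (fun y => ⟨fun hy => ⟨f y, hQ.mem hy, hgf y (hQN hy)⟩, ?_⟩)
  rintro ⟨x, hx, rfl⟩
  obtain ⟨z, hz, rfl⟩ := hQ.surj hx
  rwa [hgf z (hQN hz)]

theorem exists_extender {P Q : Subgroup Ω} {f : Ω → Ω} (hf : Iso F P Q f) :
    ∃ E : Subgroup Ω, ∀ g, g ∈ E ↔ g ∈ normalizerIn S P ∧ ∃ h ∈ S, ∀ x ∈ P, f (g * x * g⁻¹) = h * f x * h⁻¹ := by
  obtain ⟨φ, hφ, hr, hfe⟩ := id hf
  refine ⟨extender S P φ, fun g => ?_⟩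
  rw [mem_extender_iff]
  constructor
  · rintro ⟨h1, h2, h, hh, h3⟩
    refine ⟨⟨h1, h2⟩, h, hh, fun x hx => ?_⟩
    have hx' : g * x * g⁻¹ ∈ P := (Subgroup.mem_normalizer_iff.1 h2 x).1 hx
    rw [← hfe _ hx', h3 ⟨x, hx⟩ hx', hfe x hx]
  · rintro ⟨⟨h1, h2⟩, h, hh, h3⟩
    refine ⟨h1, h2, h, hh, fun x hx => ?_⟩
    rw [hfe _ hx, h3 x x.2, ← hfe x x.2]

/-- The members of the stabilizer acting trivially on `Q`. -/
def K0 (F : FusionSystem S) (R Q : Subgroup Ω) : Subgroup (MulAut R) where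
  carrier := {κ | κ ∈ stab F R Q ∧ ∀ (x : Ω) (hx : x ∈ R), x ∈ Q → κ ⟨x, hx⟩ = ⟨x, hx⟩}
  one_mem' := ⟨one_mem _, fun x _ _ => rfl⟩
  mul_mem' := by
    rintro κ μ ⟨hκ, h1⟩ ⟨hμ, h2⟩
    refine ⟨mul_mem hκ hμ, fun x hx hx' => ?_⟩
    rw [MulAut.mul_apply, h2 x hx hx', h1 x hx hx']
  inv_mem' := by
    rintro κ ⟨hκ, h1⟩
    refine ⟨inv_mem hκ, fun x hx hx' => ?_⟩
    have h2 := congrArg (fun z => (κ⁻¹ : MulAut R) z) (h1 x hx hx')
    simp only [MulAut.inv_apply_self] at h2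
    exact h2.symm

/-- if `h` conjugates `P` into itself it normalizes `P` -/
theorem mem_normalizer_of_conj_mem [Finite S] {P : Subgroup Ω} (hP : P ≤ S) {h : Ω}
    (hh : ∀ x ∈ P, h * x * h⁻¹ ∈ P) : h ∈ Subgroup.normalizer (P : Set Ω) := by
  have hfin : Finite P := finite_of_le hP
  have h1 : P.map (MulAut.conj h).toMonoidHom = P := by
    refine Subgroup.eq_of_le_of_card_ge ?_ ?_
    · rintro _ ⟨x, hx, rfl⟩
      exact hh x hx
    · rw [card_map_conj]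
  rw [Subgroup.mem_normalizer_iff]
  intro x
  refine ⟨fun hx => hh x hx, fun hx => ?_⟩
  have hx' : h * x * h⁻¹ ∈ P.map (MulAut.conj h).toMonoidHom := by rw [h1]; exact hx
  obtain ⟨y, hy, hye⟩ := hx'
  have : y = x := by
    have h2 : h * y * h⁻¹ = h * x * h⁻¹ := hye
    exact mul_left_cancel (mul_right_cancel h2)
  rwa [← this]

theorem exists_good_conj {p : ℕ} [Fact p.Prime] [Finite S] (hS : IsPGroup p S) {P₀ : Subgroup Ω}
    (hP₀S : P₀ ≤ S) (htop : ∀ Q, F.IsConj P₀ Q → Arr F Q P₀) {X : Subgroup Ω} (hPX : P₀ ≤ X)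
    (hXN : X ≤ normalizerIn S P₀) (hNX : normalizerIn S P₀ ≤ Subgroup.normalizer (X : Set Ω))
    (hX : ∃ R₀, F.IsConj X R₀ ∧ F.IsFullyAutomized p R₀ ∧ F.IsReceptive R₀)
    (hext : ∀ f, Iso F P₀ P₀ f → ∃ f', Iso F X X f' ∧ ∀ x ∈ P₀, f' x = f x) :
    ∃ P₁, F.IsConj P₀ P₁ ∧ F.IsFullyAutomized p P₁ ∧ F.IsReceptive P₁ := by
  obtain ⟨R₀, hXR₀, hR₀a, hR₀r⟩ := hX
  have hXS : X ≤ S := hXN.trans inf_le_left
  have hR₀S : R₀ ≤ S := hR₀a.1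
  obtain ⟨χ, P₁, hχ, hχP, hal⟩ := exists_aligned hS hXR₀ hR₀a hPX
  obtain ⟨-, -, N', f, hf, hfX, hfP, -⟩ := exists_ext_stab hS hχ hχP hPX hR₀r hal
    (normalizerIn S P₀) hXN (le_inf inf_le_left hNX) le_rfl
  have hP₁S : P₁ ≤ S := hfP.le_right
  have hP₀N : P₀ ≤ normalizerIn S P₀ := le_normalizerIn hP₀S
  have hN' : N' = normalizerIn S P₁ := by
    refine eq_of_le_of_card inf_le_left (hf.le_normalizerIn hfP hP₀N inf_le_right) ?_
    rw [← hf.card_eq]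
    exact (htop P₁ hfP.isConj).card_le
  rw [hN'] at hf
  have hP₁R₀ : P₁ ≤ R₀ := hfX.le_of_le hfP hPX
  have hR₀N : R₀ ≤ normalizerIn S P₁ := hf.le_of_le hfX hXN
  have hNR₀ : normalizerIn S P₁ ≤ normalizerIn S R₀ := hf.le_normalizerIn hfX hXN hNX
  obtain ⟨g, hg, hgf, hfg⟩ := hf.exists_inv
  have hgP : Iso F P₁ P₀ g := hg.inv_of hgf hf hfP hP₀N
  have hgX : Iso F R₀ X g := hg.inv_of hgf hf hfX hXN
  -- extension of automorphisms
  have hext1 : ∀ a, Iso F P₁ P₁ a → ∃ a', Iso F R₀ R₀ a' ∧ ∀ x ∈ P₁, a' x = a x := by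
    intro a ha
    obtain ⟨b, hb, hbe⟩ := hext (g ∘ (a ∘ f)) ((hfP.trans ha).trans hgP)
    refine ⟨f ∘ (b ∘ g), (hgX.trans hb).trans hfX, fun y hy => ?_⟩
    have hyN : y ∈ normalizerIn S P₁ := hR₀N (hP₁R₀ hy)
    show f (b (g y)) = a y
    rw [hbe _ (hgP.mem hy)]
    show f (g (a (f (g y)))) = a y
    rw [hfg y hyN, hfg _ (hR₀N (hP₁R₀ (ha.mem hy)))]
  have hfinP : Finite P₁ := finite_of_le hP₁S
  have hfinR : Finite R₀ := finite_of_le hR₀S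
  have hfinA : Finite (MulAut P₁) := finite_mulAut
  have hfinB : Finite (MulAut R₀) := finite_mulAut
  -- the restriction homomorphism
  have hauto : F.IsFullyAutomized p P₁ := by
    have hres : ∀ κ : stab F R₀ P₁, ∃ α : MulAut P₁, ∀ (x : Ω) (hx : x ∈ R₀) (hx' : x ∈ P₁),
        ((α ⟨x, hx'⟩ : P₁) : Ω) = ((κ : MulAut R₀) ⟨x, hx⟩ : R₀) := fun κ => exists_res hP₁R₀ κ.2
    choose r hr using hres
    have hrF : ∀ κ : stab F R₀ P₁, r κ ∈ F.autGroup P₁ := by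
      intro κ
      obtain ⟨k, hk, hke⟩ := exists_iso_of_aut hR₀S κ.2.1
      obtain ⟨P₂, hP₂, -⟩ := hk.restrict hP₁R₀
      have hle : P₂ ≤ P₁ := by
        intro y hy
        obtain ⟨x, hx, rfl⟩ := hP₂.surj hy
        have h1 := hke ⟨x, hP₁R₀ hx⟩
        show k x ∈ P₁
        rw [h1]
        exact (κ.2.2 ⟨x, hP₁R₀ hx⟩).1 hx
      have heq := eq_of_le_of_card hP₁S hle hP₂.card_eq.le
      rw [heq] at hP₂
      exact autGroup_of_iso hP₂ (fun x => by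
        rw [hr κ x (hP₁R₀ x.2) x.2]
        exact (hke ⟨x, hP₁R₀ x.2⟩).symm)
    let ρ : stab F R₀ P₁ →* F.autGroup P₁ :=
      { toFun := fun κ => ⟨r κ, hrF κ⟩
        map_one' := by
          apply Subtype.ext
          ext x
          rw [hr 1 x (hP₁R₀ x.2) x.2]
          rfl
        map_mul' := fun κ μ => by
          apply Subtype.ext
          ext x
          show ((r (κ * μ) x : P₁) : Ω) = (r κ (r μ x) : P₁)
          rw [hr (κ * μ) x (hP₁R₀ x.2) x.2]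
          have h1 := hr μ x (hP₁R₀ x.2) x.2
          rw [hr κ (r μ x) (hP₁R₀ (r μ x).2) (r μ x).2]
          have h2 : (⟨((r μ x : P₁) : Ω), hP₁R₀ (r μ x).2⟩ : R₀) = (μ : MulAut R₀) ⟨x, hP₁R₀ x.2⟩ :=
            Subtype.ext h1
          rw [h2]
          rfl }
    have hsurj : Function.Surjective ρ := by
      rintro ⟨α, hα⟩
      obtain ⟨a, ha, hae⟩ := exists_iso_of_aut hP₁S hα
      obtain ⟨a', ha', hae'⟩ := hext1 a ha
      obtain ⟨κ, hκ, hκe⟩ := ha'.exists_aut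
      have ha'P : Iso F P₁ P₁ a' := ha.congr hae'
      have hκs : κ ∈ stab F R₀ P₁ := ⟨hκ, fun x => by
        rw [hκe]; exact (ha'.mem_iff_mem ha'P hP₁R₀ x.2).symm⟩
      refine ⟨⟨κ, hκs⟩, ?_⟩
      apply Subtype.ext
      ext x
      show ((r ⟨κ, hκs⟩ x : P₁) : Ω) = (α x : P₁)
      rw [hr ⟨κ, hκs⟩ x (hP₁R₀ x.2) x.2]
      show ((κ ⟨x, _⟩ : R₀) : Ω) = _
      rw [hκe, ← hae, ← hae' x x.2]
    obtain ⟨T, hT⟩ := hal.exists_sylow
    let T' := T.mapSurjective hsurj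
    have hT'c : (T' : Subgroup (F.autGroup P₁)) = (T : Subgroup (stab F R₀ P₁)).map ρ :=
      Sylow.coe_mapSurjective hsurj T
    have hpg : IsPGroup p ((autInducedBy S P₁).subgroupOf (F.autGroup P₁)) :=
      (isPGroup_autInducedBy hS P₁).comap_of_injective _ (Subgroup.subtype_injective _)
    refine ⟨hP₁S, T', (T'.is_maximal' hpg ?_).symm⟩
    rw [hT'c, hT]
    rintro _ ⟨κ, hκ, rfl⟩
    have h1 : (κ : MulAut R₀) ∈ autInducedBy S R₀ := (Subgroup.mem_subgroupOf.1 hκ).1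
    obtain ⟨h, hh, hhe⟩ := (mem_autInducedBy_iff S R₀ _).1 h1
    rw [Subgroup.mem_subgroupOf, mem_autInducedBy_iff]
    refine ⟨h, hh, fun x => ?_⟩
    show ((r κ x : P₁) : Ω) = _
    rw [hr κ x (hP₁R₀ x.2) x.2, hhe]
  refine ⟨P₁, hfP.isConj, hauto, isReceptive_of_iso hP₁S ?_⟩
  intro Q φ hφ N hQN hN
  have hQS : Q ≤ S := hφ.le_left
  have hNQ : N ≤ normalizerIn S Q := fun n hn => ⟨(hN n hn).1, (hN n hn).2.1⟩
  have hcQ : F.IsConj P₀ Q := isConj_trans hfP.isConj (isConj_symm hφ.isConj)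
  obtain ⟨ψ₀, M, hψ₀, hψ₀Q⟩ := htop Q hcQ
  have hM : M ≤ normalizerIn S P₀ := hψ₀.le_normalizerIn hψ₀Q (le_normalizerIn hQS) inf_le_right
  obtain ⟨M', hM', -⟩ := hf.restrict hM
  have hψ : Iso F (normalizerIn S Q) M' (f ∘ ψ₀) := hψ₀.trans hM'
  have hψQ : Iso F Q P₁ (f ∘ ψ₀) := hψ₀Q.trans hfP
  set ψ := f ∘ ψ₀ with hψdef
  have hM'N : M' ≤ normalizerIn S P₁ := hψ.le_normalizerIn hψQ (le_normalizerIn hQS) inf_le_right
  obtain ⟨ψi, hψi, hψiψ, hψψi⟩ := hψQ.exists_inv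
  have ha : Iso F P₁ P₁ (φ ∘ ψi) := hψi.trans hφ
  set a := φ ∘ ψi with hadef
  have haψ : ∀ x ∈ Q, a (ψ x) = φ x := by
    intro x hx
    show φ (ψi (ψ x)) = φ x
    rw [hψiψ x hx]
  obtain ⟨a', ha', hae'⟩ := hext1 a ha
  obtain ⟨E, hE⟩ := exists_extender ha
  have hES : E ≤ normalizerIn S P₁ := fun g hg => ((hE g).1 hg).1
  have hR₀E : R₀ ≤ E := by
    intro y hy
    rw [hE]
    refine ⟨hR₀N hy, a' y, hR₀S (ha'.mem hy), fun x hx => ?_⟩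
    have hx' : y * x * y⁻¹ ∈ P₁ := (Subgroup.mem_normalizer_iff.1 (hR₀N hy).2 x).1 hx
    rw [← hae' _ hx', ha'.map_conj hy (hP₁R₀ hx), hae' x hx]
  obtain ⟨N₁, hN₁, hN₁M⟩ := hψ.restrict hNQ
  have hN₁E : N₁ ≤ E := by
    intro y hy
    obtain ⟨n, hn, rfl⟩ := hN₁.surj hy
    rw [hE]
    obtain ⟨h1, h2, h, hh, h3⟩ := hN n hn
    refine ⟨hM'N (hN₁M hy), h, hh, fun z hz => ?_⟩
    obtain ⟨x, hx, rfl⟩ := hψQ.surj hz
    have hx' : n * x * n⁻¹ ∈ Q := (Subgroup.mem_normalizer_iff.1 h2 x).1 hx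
    rw [← hψ.map_conj (hNQ hn) (le_normalizerIn hQS hx), haψ _ hx', haψ x hx, h3 x hx]
  -- apply the relative extension lemma
  obtain ⟨e, hee⟩ := ha'.exists_equiv
  have heF : e ∈ F.autGroup R₀ := autGroup_of_iso (α := e) ha' hee
  have ha'P : Iso F P₁ P₁ a' := ha.congr hae'
  have hes : (e : MulAut R₀) ∈ stab F R₀ P₁ := ⟨heF, fun x => by
    rw [hee]; exact (ha'.mem_iff_mem ha'P hP₁R₀ x.2).symm⟩
  have hinn : ∀ (h : Ω) (hh : h ∈ normalizerIn S P₁),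
      H759.conjAut R₀ h (hNR₀ hh).2 ∈ autInducedBy S R₀ ⊓ stab F R₀ P₁ := by
    intro h hh
    refine ⟨(mem_autInducedBy_iff S R₀ _).2 ⟨h, hh.1, fun x => rfl⟩, ?_, fun x => ?_⟩
    · exact autGroup_of_iso (iso_conj F hR₀S hh.1 (hNR₀ hh).2) (fun x => rfl)
    · exact Subgroup.mem_normalizer_iff.1 hh.2 x
  obtain ⟨k, hk, E', f', hf', -, hfe'⟩ := exists_ext hS ha' hR₀r (stab F R₀ P₁) (K0 F R₀ P₁)
    (stab_le F R₀ P₁) hal (fun κ hκ => hκ.1) (by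
      rintro b hb κ ⟨hκ, hκ0⟩
      refine ⟨mul_mem (mul_mem hb hκ) (inv_mem hb), fun x hx hx' => ?_⟩
      have hbi : b⁻¹ ∈ stab F R₀ P₁ := inv_mem hb
      have h1 := hκ0 (b⁻¹ ⟨x, hx⟩ : R₀) (b⁻¹ ⟨x, hx⟩).2 ((hbi.2 ⟨x, hx⟩).1 hx')
      have h2 : κ (b⁻¹ ⟨x, hx⟩) = b⁻¹ ⟨x, hx⟩ := h1
      rw [MulAut.mul_apply, MulAut.mul_apply, h2, MulAut.apply_inv_self]) E hR₀E
    (hES.trans inf_le_left) ((hES.trans hNR₀).trans inf_le_right) (by
      intro y hy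
      obtain ⟨hyN, h, hh, hhe⟩ := (hE y).1 hy
      have hhn : h ∈ Subgroup.normalizer (P₁ : Set Ω) := by
        refine mem_normalizer_of_conj_mem hP₁S (fun z hz => ?_)
        obtain ⟨x, hx, rfl⟩ := ha.surj hz
        rw [← hhe x hx]
        exact ha.mem ((Subgroup.mem_normalizer_iff.1 hyN.2 x).1 hx)
      have hhN : h ∈ normalizerIn S P₁ := ⟨hh, hhn⟩
      set b := H759.conjAut R₀ h (hNR₀ hhN).2 with hb
      set cy := H759.conjAut R₀ y (hNR₀ hyN).2 with hcy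
      refine ⟨(e : MulAut R₀) * cy * (e : MulAut R₀)⁻¹ * b⁻¹,
        ⟨mul_mem (mul_mem (mul_mem hes (hinn y hyN).2) (inv_mem hes)) (inv_mem (hinn h hhN).2), ?_⟩,
        b, hinn h hhN, fun x hx hx' => ?_⟩
      · intro z hz hz'
        obtain ⟨x, hx, hxz⟩ := ha.surj hz'
        have hbz : b⁻¹ ⟨z, hz⟩ = ⟨h⁻¹ * z * h, by
            have := (hNR₀ hhN).2
            have h3 := (Subgroup.mem_normalizer_iff.1 (inv_mem this) z).1 hz
            simpa using h3⟩ := by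
          rw [MulAut.inv_apply, MulEquiv.symm_apply_eq]
          apply Subtype.ext
          show z = h * (h⁻¹ * z * h) * h⁻¹
          group
        have hz2 : h⁻¹ * z * h ∈ P₁ := by
          have h3 := (Subgroup.mem_normalizer_iff.1 (inv_mem hhn) z).1 hz'
          simpa using h3
        obtain ⟨x₂, hx₂, hx₂z⟩ := ha.surj hz2
        have h4 : (⟨h⁻¹ * z * h, hP₁R₀ hz2⟩ : R₀) = e ⟨x₂, hP₁R₀ hx₂⟩ := by
          apply Subtype.ext
          rw [hee]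
          show h⁻¹ * z * h = a' x₂
          rw [hae' x₂ hx₂, hx₂z]
        have h5 : y * x₂ * y⁻¹ ∈ P₁ := (Subgroup.mem_normalizer_iff.1 hyN.2 x₂).1 hx₂
        rw [MulAut.mul_apply, MulAut.mul_apply, MulAut.mul_apply, hbz, h4]
        have h6 : (e : MulAut R₀)⁻¹ (e ⟨x₂, hP₁R₀ hx₂⟩) = ⟨x₂, hP₁R₀ hx₂⟩ := MulAut.inv_apply_self _ _ _
        rw [h6]
        apply Subtype.ext
        show ((e (cy ⟨x₂, _⟩) : R₀) : Ω) = z
        rw [hee]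
        show a' (y * x₂ * y⁻¹) = z
        rw [hae' _ h5, hhe x₂ hx₂, hx₂z]
        group
      · have h1 : (⟨a' x, hx'⟩ : R₀) = e ⟨x, hx⟩ := Subtype.ext (hee ⟨x, hx⟩).symm
        rw [h1, MulAut.mul_apply, MulAut.mul_apply, MulAut.mul_apply, MulAut.inv_apply_self]
        have h6 : (e : MulAut R₀)⁻¹ (e ⟨x, hx⟩) = ⟨x, hx⟩ := MulAut.inv_apply_self _ _ _
        rw [h6]
        exact (hee (cy ⟨x, hx⟩)).symm)
  obtain ⟨N₂, hN₂, -⟩ := hf'.restrict hN₁E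
  refine ⟨N₂, f' ∘ ψ, hN₁.trans hN₂, fun x hx => ?_⟩
  have hψx : ψ x ∈ P₁ := hψQ.mem hx
  show f' (ψ x) = φ x
  rw [hfe' (ψ x) (hP₁R₀ hψx) (ha'.mem (hP₁R₀ hψx))]
  have h1 : a' (ψ x) ∈ P₁ := ha'P.mem hψx
  rw [hk.2 _ _ h1]
  show a' (ψ x) = φ x
  rw [hae' _ hψx, haψ x hx]

end Cfsg.Agent.H750
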