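import Mathlib.GroupTheory.PGroup
import Mathlib.Algebra.BigOperators.Group.Finset.Basic
import Mathlib.Data.ZMod.Basic
import Mathlib.GroupTheory.GroupAction.Basic

/-!
# The trace of a right equivariant bijection of a biset

`X` is a finite set with an action of `G × G`; the second factor acts freely. `t : G → ZMod p` is additive and
constant on the stabilizers. The trace of a right equivariant bijection is the transfer of `t`.
-/

set_option autoImplicit false

namespace Cfsg.Agent.H750.Trace

open scoped BigOperators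

section tau

variable {G : Type*} [Group G] {X : Type*} [MulAction G X] {p : ℕ}

/-- a function with prescribed equivariance, when the stabilizers are in the kernel -/
theorem exists_equivariant (c : G → ZMod p) (hc : ∀ a b, c (a * b) = c a + c b)
    (hstab : ∀ (x : X) (g : G), g • x = x → c g = 0) :
    ∃ τ : X → ZMod p, ∀ (g : G) (x : X), τ (g • x) = τ x + c g := by
  classical
  have hrep : ∀ x : X, ∃ g : G, x = g • (Quotient.mk (MulAction.orbitRel G X) x).out := by
    intro x
    have h : (MulAction.orbitRel G X).r (Quotient.mk (MulAction.orbitRel G X) x).out x := Quotient.mk_out x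
    obtain ⟨g, hg⟩ := h
    refine ⟨g⁻¹, ?_⟩
    rw [← hg]
    exact (inv_smul_smul g x).symm
  choose r hr using hrep
  have hc1 : c 1 = 0 := by
    have := hc 1 1
    rw [mul_one] at this
    exact left_eq_add.1 this
  have hcinv : ∀ a, c a⁻¹ = - c a := by
    intro a
    have := hc a⁻¹ a
    rw [inv_mul_cancel, hc1] at this
    exact eq_neg_of_add_eq_zero_left this.symm
  refine ⟨fun x => c (r x), fun g x => ?_⟩
  have h1 : Quotient.mk (MulAction.orbitRel G X) (g • x) = Quotient.mk (MulAction.orbitRel G X) x :=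
    Quotient.sound ⟨g, rfl⟩
  have h2 := hr (g • x)
  rw [h1] at h2
  have h3 : ((g * r x)⁻¹ * r (g • x)) • (Quotient.mk (MulAction.orbitRel G X) x).out =
      (Quotient.mk (MulAction.orbitRel G X) x).out := by
    rw [mul_smul, ← h2, inv_smul_eq_iff, mul_smul, ← hr x]
  have h4 := hstab _ _ h3
  rw [hc, hcinv, hc] at h4
  show c (r (g • x)) = c (r x) + c g
  have h5 := eq_of_sub_eq_zero (a := c (r (g • x))) (b := c g + c (r x)) (by
    rw [← h4]; ring)
  rw [h5, add_comm]

end tau

variable {G : Type*} [Group G] {X : Type*} [MulAction (G × G) X] {p : ℕ}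

/-- the equivalence relation of the right action -/
def rel (G : Type*) [Group G] (X : Type*) [MulAction (G × G) X] : Setoid X where
  r x y := ∃ s : G, ((1, s) : G × G) • x = y
  iseqv :=
    { refl := fun x => ⟨1, one_smul (G × G) x⟩
      symm := by
        rintro x y ⟨s, rfl⟩
        refine ⟨s⁻¹, ?_⟩
        rw [smul_smul]
        simp [← Prod.one_eq_mk]
      trans := by
        rintro x y z ⟨s, rfl⟩ ⟨u, rfl⟩
        refine ⟨u * s, ?_⟩
        rw [smul_smul]
        simp }

theorem mk_eq_iff {x y : X} : Quotient.mk (rel G X) x = Quotient.mk (rel G X) y ↔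
    ∃ s : G, ((1, s) : G × G) • x = y :=
  ⟨fun h => Quotient.exact h, fun h => Quotient.sound h⟩

/-- right equivariance -/
def REq (G : Type*) [Group G] {X : Type*} [MulAction (G × G) X] (f : X → X) : Prop :=
  ∀ (s : G) (x : X), f (((1, s) : G × G) • x) = ((1, s) : G × G) • f x

/-- bi-equivariance of `τ` -/
def Tau (t : G → ZMod p) (τ : X → ZMod p) : Prop :=
  ∀ (g s : G) (x : X), τ (((g, s) : G × G) • x) = τ x + t g - t s

theorem exists_tau (t : G → ZMod p) (ht : ∀ a b, t (a * b) = t a + t b)
    (hstab : ∀ (x : X) (g s : G), ((g, s) : G × G) • x = x → t g = t s) :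
    ∃ τ : X → ZMod p, Tau t τ := by
  obtain ⟨τ, hτ⟩ := exists_equivariant (G := G × G) (X := X) (fun a => t a.1 - t a.2)
    (fun a b => by simp only [Prod.fst_mul, Prod.snd_mul, ht]; ring)
    (fun x g h => by rw [hstab x g.1 g.2 h, sub_self])
  exact ⟨τ, fun g s x => by rw [hτ]; ring⟩

/-- the induced bijection of the right orbits -/
noncomputable def qmap (f : X ≃ X) (hf : REq G f) : Quotient (rel G X) ≃ Quotient (rel G X) :=
  Quotient.congr f (fun x y => by
    constructor
    · rintro ⟨s, rfl⟩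
      exact ⟨s, (hf s x).symm⟩
    · rintro ⟨s, hs⟩
      refine ⟨s, f.injective ?_⟩
      rw [hf s x, hs])

theorem qmap_mk (f : X ≃ X) (hf : REq G f) (x : X) :
    qmap f hf (Quotient.mk (rel G X) x) = Quotient.mk (rel G X) (f x) := rfl

theorem REq.comp {f g : X → X} (hf : REq G f) (hg : REq G g) : REq G (f ∘ g) := fun s x => by
  show f (g _) = _
  rw [hg, hf]
  rfl

theorem REq.symm {f : X ≃ X} (hf : REq G f) : REq G f.symm := fun s x => by
  rw [Equiv.symm_apply_eq, hf, Equiv.apply_symm_apply]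

variable [Finite X]

/-- the trace -/
noncomputable def Tr (G : Type*) [Group G] {X : Type*} [MulAction (G × G) X] [Finite X] (τ : X → ZMod p)
    (f : X → X) : ZMod p :=
  letI := Fintype.ofFinite (Quotient (rel G X))
  ∑ q : Quotient (rel G X), (τ (f q.out) - τ q.out)

omit [Finite X] in
theorem delta_congr {t : G → ZMod p} {τ : X → ZMod p} (hτ : Tau t τ) {f : X → X} (hf : REq G f) {x y : X}
    (h : Quotient.mk (rel G X) x = Quotient.mk (rel G X) y) : τ (f x) - τ x = τ (f y) - τ y := by
  obtain ⟨s, rfl⟩ := mk_eq_iff.1 h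
  rw [hf, hτ, hτ]
  ring

theorem Tr_eq {t : G → ZMod p} {τ : X → ZMod p} (hτ : Tau t τ) {f : X → X} (hf : REq G f)
    [Fintype (Quotient (rel G X))] (r : Quotient (rel G X) → X)
    (hr : ∀ q, Quotient.mk (rel G X) (r q) = q) : Tr G τ f = ∑ q, (τ (f (r q)) - τ (r q)) := by
  have : (Fintype.ofFinite (Quotient (rel G X))) = (inferInstance : Fintype (Quotient (rel G X))) :=
    Subsingleton.elim _ _
  unfold Tr
  rw [this]
  refine Finset.sum_congr rfl (fun q _ => delta_congr hτ hf ?_)
  rw [hr, Quotient.out_eq]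

theorem Tr_comp {t : G → ZMod p} {τ : X → ZMod p} (hτ : Tau t τ) {f g : X ≃ X} (hf : REq G f)
    (hg : REq G g) : Tr G τ (f ∘ g) = Tr G τ f + Tr G τ g := by
  let _ := Fintype.ofFinite (Quotient (rel G X))
  have h1 : Tr G τ f = ∑ q : Quotient (rel G X), (τ (f (g q.out)) - τ (g q.out)) := by
    rw [Tr_eq hτ hf (fun q => q.out) (fun q => Quotient.out_eq q), ← Equiv.sum_comp (qmap g hg)]
    refine Finset.sum_congr rfl (fun q _ => delta_congr hτ hf ?_)
    rw [Quotient.out_eq]
    conv_lhs => rw [← Quotient.out_eq q]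
    rw [qmap_mk]
  have h2 : Tr G τ g = ∑ q : Quotient (rel G X), (τ (g q.out) - τ q.out) := rfl
  have h3 : Tr G τ (f ∘ g) = ∑ q : Quotient (rel G X), (τ (f (g q.out)) - τ q.out) := rfl
  rw [h1, h2, h3, ← Finset.sum_add_distrib]
  refine Finset.sum_congr rfl (fun q _ => ?_)
  ring

theorem Tr_id (τ : X → ZMod p) : Tr G τ (id : X → X) = 0 := by
  unfold Tr
  simp

theorem Tr_symm {t : G → ZMod p} {τ : X → ZMod p} (hτ : Tau t τ) {f : X ≃ X} (hf : REq G f) :
    Tr G τ f.symm = - Tr G τ f := by
  have h := Tr_comp hτ (f := f.symm) (g := f) hf.symm hf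
  rw [Equiv.symm_comp_self, Tr_id] at h
  exact eq_neg_of_add_eq_zero_left h.symm

/-- left multiplication -/
def lm (X : Type*) [MulAction (G × G) X] (g : G) : X ≃ X where
  toFun x := ((g, 1) : G × G) • x
  invFun x := ((g⁻¹, 1) : G × G) • x
  left_inv x := by simp [smul_smul, ← Prod.one_eq_mk]
  right_inv x := by simp [smul_smul, ← Prod.one_eq_mk]

omit [Finite X] in
theorem lm_apply (g : G) (x : X) : lm X g x = ((g, 1) : G × G) • x := rfl

omit [Finite X] in
theorem REq_lm (g : G) : REq G (lm X g) := fun s x => by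
  rw [lm_apply, lm_apply, smul_smul, smul_smul]
  simp

theorem Tr_lm {t : G → ZMod p} {τ : X → ZMod p} (hτ : Tau t τ) (ht1 : t 1 = 0) (g : G) :
    Tr G τ (lm X g) = Nat.card (Quotient (rel G X)) * t g := by
  let _ := Fintype.ofFinite (Quotient (rel G X))
  have : Tr G τ (lm X g) = ∑ _q : Quotient (rel G X), t g := by
    rw [Tr_eq hτ (REq_lm g) (fun q => q.out) (fun q => Quotient.out_eq q)]
    refine Finset.sum_congr rfl (fun q _ => ?_)
    rw [lm_apply, hτ, ht1]
    ring
  rw [this, Finset.sum_const, Finset.card_univ, nsmul_eq_mul, Nat.card_eq_fintype_card]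

omit [Finite X] in
/-- if the right action is free then `|X| = |X/G| |G|` -/
theorem card_eq (hfree : ∀ (x : X) (s : G), ((1, s) : G × G) • x = x → s = 1) :
    Nat.card X = Nat.card (Quotient (rel G X)) * Nat.card G := by
  rw [← Nat.card_prod]
  refine (Nat.card_congr (Equiv.ofBijective (fun z : Quotient (rel G X) × G =>
    ((1, z.2) : G × G) • z.1.out) ⟨?_, ?_⟩)).symm
  · rintro ⟨q, s⟩ ⟨q', s'⟩ h
    have h' : ((1, s) : G × G) • q.out = ((1, s') : G × G) • q'.out := h
    have hq : q = q' := by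
      have h1 : Quotient.mk (rel G X) q.out = Quotient.mk (rel G X) q'.out := by
        rw [mk_eq_iff]
        refine ⟨s'⁻¹ * s, ?_⟩
        have h2 : ((1, s'⁻¹ * s) : G × G) = (1, s'⁻¹) * (1, s) := by simp
        rw [h2, mul_smul, h', smul_smul]
        simp [← Prod.one_eq_mk]
      rwa [Quotient.out_eq, Quotient.out_eq] at h1
    subst hq
    have h3 : ((1, s'⁻¹ * s) : G × G) • q.out = q.out := by
      have h2 : ((1, s'⁻¹ * s) : G × G) = (1, s'⁻¹) * (1, s) := by simp
      rw [h2, mul_smul, h', smul_smul]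
      simp [← Prod.one_eq_mk]
    have h4 := hfree _ _ h3
    rw [inv_mul_eq_one] at h4
    rw [h4]
  · intro x
    have h1 : (rel G X).r (Quotient.mk (rel G X) x).out x := Quotient.mk_out x
    obtain ⟨s, hs⟩ := h1
    exact ⟨(Quotient.mk (rel G X) x, s), hs⟩

/-- sums of invariant functions reduce to the fixed points modulo `p` -/
theorem sum_eq_sum_fixed {P : Type*} [Group P] [hp : Fact p.Prime] (hP : IsPGroup p P) {Y : Type*} [Fintype Y]
    [MulAction P Y] (h : Y → ZMod p) (hinv : ∀ (g : P) (y : Y), h (g • y) = h y)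
    [DecidablePred (fun y : Y => y ∈ MulAction.fixedPoints P Y)] :
    ∑ y, h y = ∑ y ∈ Finset.univ.filter (fun y : Y => y ∈ MulAction.fixedPoints P Y), h y := by
  classical
  have hfib : ∀ s : Finset Y, ∑ y ∈ s, h y = ∑ v : ZMod p, ((s.filter (fun y => h y = v)).card : ZMod p) * v := by
    intro s
    rw [← Finset.sum_fiberwise s h h]
    refine Finset.sum_congr rfl (fun v _ => ?_)
    rw [Finset.sum_congr rfl (g := fun _ => v) (fun y hy => (Finset.mem_filter.1 hy).2), Finset.sum_const,
      nsmul_eq_mul]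
  rw [hfib, hfib]
  refine Finset.sum_congr rfl (fun v _ => ?_)
  congr 1
  let Z : SubMulAction P Y :=
    { carrier := {y | h y = v}
      smul_mem' := fun g y hy => by
        show h (g • y) = v
        rw [hinv]; exact hy }
  have h1 := hP.card_modEq_card_fixedPoints Z
  rw [← ZMod.natCast_eq_natCast_iff] at h1
  have h2 : Nat.card Z = (Finset.univ.filter (fun y => h y = v)).card := by
    rw [← Fintype.card_subtype, ← Nat.card_eq_fintype_card]
    rfl
  have h3 : Nat.card (MulAction.fixedPoints P Z) =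
      ((Finset.univ.filter (fun y : Y => y ∈ MulAction.fixedPoints P Y)).filter (fun y => h y = v)).card := by
    rw [Finset.filter_filter, ← Fintype.card_subtype, ← Nat.card_eq_fintype_card]
    refine Nat.card_congr
      { toFun := fun z => ⟨z.1.1, fun g => congrArg Subtype.val (z.2 g), z.1.2⟩
        invFun := fun z => ⟨⟨z.1, z.2.2⟩, fun g => Subtype.ext (z.2.1 g)⟩
        left_inv := fun z => rfl
        right_inv := fun z => rfl }
  rw [← h2, ← h3]
  exact h1

/-- the left action on the right orbits -/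
@[reducible] def leftAct (G : Type*) [Group G] (X : Type*) [MulAction (G × G) X] :
    MulAction G (Quotient (rel G X)) where
  smul g := Quotient.map (fun x => ((g, 1) : G × G) • x) (by
    rintro x y ⟨s, rfl⟩
    refine ⟨s, ?_⟩
    rw [smul_smul, smul_smul]
    simp)
  one_smul := by
    rintro ⟨x⟩
    show Quotient.mk (rel G X) (((1, 1) : G × G) • x) = Quotient.mk (rel G X) x
    rw [← Prod.one_eq_mk, one_smul]
  mul_smul := by
    rintro g h ⟨x⟩
    show Quotient.mk (rel G X) (((g * h, 1) : G × G) • x) =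
      Quotient.mk (rel G X) (((g, 1) : G × G) • ((h, 1) : G × G) • x)
    rw [smul_smul]
    simp

/-- **Vanishing of the trace** of a bijection commuting with a thin subgroup on the left. -/
theorem Tr_eq_zero [hp : Fact p.Prime] {t : G → ZMod p} {τ : X → ZMod p} (hτ : Tau t τ) (ht1 : t 1 = 0)
    (hfree : ∀ (x : X) (s : G), ((1, s) : G × G) • x = x → s = 1)
    (P : Subgroup G) (hP : IsPGroup p P) (f : X ≃ X)
    (hf : ∀ g ∈ P, ∀ (s : G) (x : X), f (((g, s) : G × G) • x) = ((g, s) : G × G) • f x)
    (hthin : ∀ x : X, (∀ g ∈ P, ∃ s : G, ((g, s) : G × G) • x = x) → ∀ u : G,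
      (∀ g ∈ P, ∀ s : G, ((g, s) : G × G) • x = x → s * u = u * s) → t u = 0) :
    Tr G τ f = 0 := by
  classical
  let _ := Fintype.ofFinite (Quotient (rel G X))
  let _ : MulAction G (Quotient (rel G X)) := leftAct G X
  have hR : REq G f := fun s x => hf 1 (one_mem P) s x
  -- the key of a point
  let Ψ : X → Set (G × G) := fun x => {z | z.1 ∈ P ∧ z • x = x}
  have hΨf : ∀ x, Ψ (f x) = Ψ x := by
    intro x
    ext ⟨g, s⟩
    constructor
    · rintro ⟨h1, h2⟩
      refine ⟨h1, f.injective ?_⟩
      show f (((g, s) : G × G) • x) = f x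
      rw [hf g h1 s x]; exact h2
    · rintro ⟨h1, h2⟩
      refine ⟨h1, ?_⟩
      show ((g, s) : G × G) • f x = f x
      rw [← hf g h1 s x]
      exact congrArg f h2
  have hΨu : ∀ (u : G) (x : X), Ψ (((1, u) : G × G) • x) = (fun z : G × G => (z.1, u * z.2 * u⁻¹)) '' Ψ x := by
    intro u x
    ext ⟨g, s⟩
    constructor
    · rintro ⟨h1, h2⟩
      refine ⟨(g, u⁻¹ * s * u), ⟨h1, ?_⟩, ?_⟩
      · have h3 : ((g, u⁻¹ * s * u) : G × G) = (1, u)⁻¹ * (g, s) * (1, u) := by simp
        rw [h3, mul_smul, mul_smul]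
        have h4 : ((g, s) : G × G) • ((1, u) : G × G) • x = ((1, u) : G × G) • x := h2
        rw [h4, inv_smul_smul]
      · simp only [Prod.mk.injEq, true_and]
        group
    · rintro ⟨⟨g', s'⟩, ⟨h1, h2⟩, h3⟩
      simp only [Prod.mk.injEq] at h3
      obtain ⟨rfl, rfl⟩ := h3
      refine ⟨h1, ?_⟩
      show ((g', u * s' * u⁻¹) : G × G) • ((1, u) : G × G) • x = ((1, u) : G × G) • x
      have h5 : ((g', u * s' * u⁻¹) : G × G) * (1, u) = (1, u) * (g', s') := by simp
      rw [smul_smul, h5, mul_smul]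
      exact congrArg _ h2
  -- the conjugacy of keys
  let cs : Setoid (Set (G × G)) :=
    { r := fun A B => ∃ u : G, B = (fun z : G × G => (z.1, u * z.2 * u⁻¹)) '' A
      iseqv :=
        { refl := fun A => ⟨1, by simp⟩
          symm := by
            rintro A B ⟨u, rfl⟩
            refine ⟨u⁻¹, ?_⟩
            rw [Set.image_image]
            have : (fun z : G × G => ((z.1, u⁻¹ * (u * z.2 * u⁻¹) * u⁻¹⁻¹) : G × G)) = id := by
              funext z
              ext
              · rfl
              · show u⁻¹ * (u * z.2 * u⁻¹) * u⁻¹⁻¹ = z.2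
                group
            show A = (fun z : G × G => ((z.1, u⁻¹ * (u * z.2 * u⁻¹) * u⁻¹⁻¹) : G × G)) '' A
            rw [this, Set.image_id]
          trans := by
            rintro A B C ⟨u, rfl⟩ ⟨v, rfl⟩
            refine ⟨v * u, ?_⟩
            rw [Set.image_image]
            refine congrArg (fun k => k '' A) ?_
            funext z
            ext
            · rfl
            · show v * (u * z.2 * u⁻¹) * v⁻¹ = v * u * z.2 * (v * u)⁻¹
              group } }
  let K : Set (G × G) → Set (G × G) := fun A => (Quotient.mk cs A).out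
  have hKr : ∀ A, ∃ u : G, K A = (fun z : G × G => (z.1, u * z.2 * u⁻¹)) '' A := by
    intro A
    exact cs.symm (Quotient.mk_out A)
  have hKu : ∀ (u : G) (A : Set (G × G)), K ((fun z : G × G => (z.1, u * z.2 * u⁻¹)) '' A) = K A := by
    intro u A
    have : Quotient.mk cs ((fun z : G × G => (z.1, u * z.2 * u⁻¹)) '' A) = Quotient.mk cs A :=
      Quotient.sound (cs.symm ⟨u, rfl⟩)
    show (Quotient.mk cs _).out = (Quotient.mk cs _).out
    rw [this]
  -- canonical representatives
  have hrep : ∀ q : Quotient (rel G X), ∃ x : X, Quotient.mk (rel G X) x = q ∧ K (Ψ x) = Ψ x := by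
    intro q
    obtain ⟨u, hu⟩ := hKr (Ψ q.out)
    refine ⟨((1, u) : G × G) • q.out, ?_, ?_⟩
    · conv_rhs => rw [← Quotient.out_eq q]
      exact Quotient.sound ((rel G X).symm ⟨u, rfl⟩)
    · rw [hΨu, hKu, hu]
  choose r hr hrK using hrep
  rw [Tr_eq hτ hR r hr]
  -- reduce to fixed points
  have hsmul : ∀ (g : G) (x : X), g • (Quotient.mk (rel G X) x) = Quotient.mk (rel G X) (((g, 1) : G × G) • x) :=
    fun g x => rfl
  have hinv : ∀ (g : P) (q : Quotient (rel G X)),
      (fun q => τ (f (r q)) - τ (r q)) (g • q) = (fun q => τ (f (r q)) - τ (r q)) q := by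
    intro g q
    have h1 : Quotient.mk (rel G X) (r (g • q)) = Quotient.mk (rel G X) ((((g : G), 1) : G × G) • r q) := by
      rw [hr, ← hsmul, hr]
      rfl
    have h2 := delta_congr hτ hR h1
    show τ (f (r (g • q))) - τ (r (g • q)) = _
    rw [h2, hf g g.2, hτ, hτ]
    ring
  rw [sum_eq_sum_fixed hP (fun q => τ (f (r q)) - τ (r q)) hinv]
  -- on the fixed points
  have hstep : ∀ q ∈ MulAction.fixedPoints P (Quotient (rel G X)), τ (f (r q)) = τ (r (qmap f hR q)) := by
    intro q hq
    have h1 : Quotient.mk (rel G X) (f (r q)) = Quotient.mk (rel G X) (r (qmap f hR q)) := by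
      rw [hr, ← qmap_mk f hR, hr]
    obtain ⟨u, hu⟩ := mk_eq_iff.1 h1
    have hkey : Ψ (r (qmap f hR q)) = Ψ (f (r q)) := by
      rw [← hrK (qmap f hR q), ← hu, hΨu, hKu, hΨf, hrK]
    have hfix : ∀ g ∈ P, ∃ s : G, ((g, s) : G × G) • f (r q) = f (r q) := by
      intro g hg
      have h2 := hq ⟨g, hg⟩
      have h3 : Quotient.mk (rel G X) (((g, 1) : G × G) • r q) = Quotient.mk (rel G X) (r q) := by
        rw [← hsmul, hr]
        exact h2
      obtain ⟨s, hs⟩ := mk_eq_iff.1 h3
      rw [smul_smul] at hs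
      refine ⟨s, ?_⟩
      rw [← hf g hg]
      congr 1
      simpa using hs
    have hu0 : t u = 0 := by
      refine hthin (f (r q)) hfix u (fun g hg s hs => ?_)
      have h2 : ((g, s) : G × G) ∈ Ψ (f (r q)) := ⟨hg, hs⟩
      rw [← hkey, ← hu, hΨu] at h2
      obtain ⟨⟨g', s'⟩, ⟨h3, h4⟩, h5⟩ := h2
      simp only [Prod.mk.injEq] at h5
      obtain ⟨rfl, rfl⟩ := h5
      have h6 : ((1, s'⁻¹ * (u * s' * u⁻¹)) : G × G) • f (r q) = f (r q) := by
        have h7 : ((1, s'⁻¹ * (u * s' * u⁻¹)) : G × G) = (g', s')⁻¹ * (g', u * s' * u⁻¹) := by simp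
        rw [h7, mul_smul, hs, inv_smul_eq_iff]
        exact h4.symm
      have h8 := hfree _ _ h6
      have h9 : u * s' * u⁻¹ = s' := (inv_mul_eq_one.1 h8).symm
      rw [h9]
      calc s' * u = (u * s' * u⁻¹) * u := by rw [h9]
        _ = u * s' := by group
    rw [← hu, hτ, hu0, ht1]
    ring
  have hperm : ∀ q, q ∈ MulAction.fixedPoints P (Quotient (rel G X)) ↔
      qmap f hR q ∈ MulAction.fixedPoints P (Quotient (rel G X)) := by
    have hcomm : ∀ (g : P) (q : Quotient (rel G X)), qmap f hR (g • q) = g • qmap f hR q := by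
      rintro g ⟨x⟩
      show Quotient.mk (rel G X) (f ((((g : G), 1) : G × G) • x)) =
        Quotient.mk (rel G X) ((((g : G), 1) : G × G) • f x)
      rw [hf g g.2]
    intro q
    constructor
    · intro h g
      rw [← hcomm, h g]
    · intro h g
      apply (qmap f hR).injective
      rw [hcomm, h g]
  rw [Finset.sum_sub_distrib]
  rw [Finset.sum_congr rfl (fun q hq => hstep q (Finset.mem_filter.1 hq).2)]
  rw [sub_eq_zero]
  refine Finset.sum_equiv (qmap f hR) (fun q => ?_) (fun q _ => rfl)
  rw [Finset.mem_filter, Finset.mem_filter]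
  simp only [Finset.mem_univ, true_and]
  exact hperm q

end Cfsg.Agent.H750.Trace
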